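import Mathlib
import Cfsg.Agent.Lib.helper23.OrdGen3

set_option autoImplicit false
set_option linter.unusedVariables false
set_option linter.unusedSectionVars false

namespace Cfsg.Agent.Lib.Helper1.O4032

open Cfsg.Agent.Lib.helper8 Cfsg.Agent.Lib.helper23

variable {G : Type*} [Group G] [Finite G] [IsSimpleGroup G]

theorem nc (hG : Nat.card G = 4032) : ¬ IsMulCommutative G :=
  h8_not_comm_of_card (by rw [hG]; norm_num)

theorem n7_mem (hG : Nat.card G = 4032) [Fact (Nat.Prime 7)] :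
    Nat.card (Sylow 7 G) = 8 ∨ Nat.card (Sylow 7 G) = 36 ∨ Nat.card (Sylow 7 G) = 64 ∨
      Nat.card (Sylow 7 G) = 288 := by
  have hG7 : Nat.card G = 7 ^ 1 * 576 := by rw [hG]; norm_num
  have hnd : ¬ 7 ∣ 576 := by norm_num
  have h1 := h8_nsylow_mem (G := G) 7 1 576 hG7 hnd
  have e : (Nat.divisors 576).filter (fun d => d % 7 = 1) = {1, 8, 36, 64, 288} := by
    decide +kernel
  rw [e] at h1
  simp only [Finset.mem_insert, Finset.mem_singleton] at h1
  have h2 := h8_simple_nsylow_ne_one (G := G) 7 1 576 hG7 hnd (by norm_num) (by norm_num)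
  rcases h1 with h1 | h1 | h1 | h1 | h1
  · exact absurd h1 h2
  · exact Or.inl h1
  · exact Or.inr (Or.inl h1)
  · exact Or.inr (Or.inr (Or.inl h1))
  · exact Or.inr (Or.inr (Or.inr h1))

theorem setup (hG : Nat.card G = 4032) [Fact (Nat.Prime 7)] (P : Sylow 7 G) :
    Nat.card (P : Subgroup G) = 7 ∧
    Nat.card (Subgroup.normalizer ((P : Subgroup G) : Set G)) * Nat.card (Sylow 7 G) = 4032 ∧
    Nat.card (G ⧸ Subgroup.normalizer ((P : Subgroup G) : Set G)) = Nat.card (Sylow 7 G) ∧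
    ∃ r, r ∣ 6 ∧ r ≠ 1 ∧
      Nat.card (Subgroup.centralizer ((P : Subgroup G) : Set G)) * r =
        Nat.card (Subgroup.normalizer ((P : Subgroup G) : Set G)) := by
  have hG7 : Nat.card G = 7 ^ 1 * 576 := by rw [hG]; norm_num
  have hnd : ¬ 7 ∣ 576 := by norm_num
  obtain ⟨h1, h2, h3, r, hr, hr1, h4⟩ := og3_sylow_data 7 576 hG7 hnd (by norm_num) P
  rw [hG] at h2
  exact ⟨h1, h2, h3, r, hr, hr1, h4⟩

theorem N_ne_top (hG : Nat.card G = 4032) [Fact (Nat.Prime 7)] (P : Sylow 7 G) :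
    Subgroup.normalizer ((P : Subgroup G) : Set G) ≠ ⊤ := by
  intro h
  obtain ⟨h1, h2, h3, -⟩ := setup hG P
  rw [h, Subgroup.card_top, hG] at h2
  have : Nat.card (Sylow 7 G) = 1 := by omega
  rcases n7_mem hG with h | h | h | h <;> omega

theorem case8 (hG : Nat.card G = 4032) [Fact (Nat.Prime 7)] (h8 : Nat.card (Sylow 7 G) = 8) :
    False := by
  obtain ⟨P⟩ : Nonempty (Sylow 7 G) := inferInstance
  obtain ⟨hP, hN, hX, r, hr, hr1, hC⟩ := setup hG P
  rw [h8] at hN
  have hN504 : Nat.card (Subgroup.normalizer ((P : Subgroup G) : Set G)) = 504 := by omega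
  rw [hN504] at hC
  have hr6 : r ≤ 6 := Nat.le_of_dvd (by norm_num) hr
  have h2 : 2 ∣ Nat.card (Subgroup.centralizer ((P : Subgroup G) : Set G)) := by
    interval_cases r <;> omega
  obtain ⟨c, hcC, hc2, f, hf, hf1, hf4, hflt, -⟩ :=
    og3_invol_package (nc hG) 7 (by decide) P hP h2 (by rw [h8]; norm_num)
  rw [h8] at hf4 hflt
  have : f % 7 = 1 := hf1
  interval_cases f <;> omega

end Cfsg.Agent.Lib.Helper1.O4032
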