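import Mathlib
import Cfsg.Agent.Lib.Helper26.ExcMain

set_option autoImplicit false
set_option linter.style.haveILetI false
set_option linter.unusedSectionVars false
set_option linter.unusedVariables false

namespace Cfsg.Agent.Lib.Helper1.O4032

open scoped ComplexConjugate
open Cfsg.Agent.Lib.Helper11 Cfsg.Agent.Lib.helper7 Cfsg.Agent.Lib.Helper25 Cfsg.Agent.Lib.helper2
open Cfsg.Agent.Lib.Helper26

variable {G : Type*} [Group G]

theorem exc_main2 [Fintype G] [Fintype (Cfsg.IrrCharacter G)] [DecidableEq (Cfsg.IrrCharacter G)]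
    (P : Subgroup G) [Fintype P] {p e t : ℕ} [hp : Fact p.Prime]
    (hP : Nat.card P = p) (hC : Nat.card (Subgroup.centralizer (P : Set G)) = p)
    (hN : Nat.card (Subgroup.normalizer (P : Set G)) = p * e)
    (hte : t * e = p - 1) (ht : 2 ≤ t) :
    ∃ (ε : ℤ) (S : Finset (Cfsg.IrrCharacter G)) (w : Cfsg.IrrCharacter G → ℤ) (a : ℤ)
      (θ' : excDual P → Cfsg.IrrCharacter G),
      (ε = 1 ∨ ε = -1) ∧ S.card = t ∧ (∀ χ ∈ S, w χ = a) ∧
      (∑ χ, w χ ^ 2 + 2 * ε * a = (e : ℤ)) ∧
      (∀ θ ∈ S, ∑ χ : Cfsg.IrrCharacter G, w χ * (Cfsg.charDegree (χ : G → ℂ) : ℤ)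
        + ε * (Cfsg.charDegree (θ : G → ℂ) : ℤ) = 0) ∧
      (∀ χ ∈ S, ∃ m : ℤ, (Cfsg.charDegree (χ : G → ℂ) : ℤ) =
        (p : ℤ) * m - (e : ℤ) * ((t : ℤ) * w χ + ε)) ∧
      (∀ χ ∉ S, ∃ m : ℤ, (Cfsg.charDegree (χ : G → ℂ) : ℤ) =
        (p : ℤ) * m - (e : ℤ) * ((t : ℤ) * w χ)) ∧
      w (trivIrr G) = 1 ∧ trivIrr G ∉ S ∧
      (∀ μ : excDual P, θ' μ ∈ S) ∧
      (∀ (μ : excDual P) (χ : Cfsg.IrrCharacter G),
        excN P μ.hom χ = w χ + if χ = θ' μ then ε else 0) := by
  classical
  haveI : Finite (P →* ℂˣ) := exc_finite_hom P hP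
  haveI : Fintype (P →* ℂˣ) := Fintype.ofFinite _
  haveI : Finite (excDual P) := (Subtype.finite : Finite {μ : P →* ℂˣ // μ ≠ 1})
  haveI : Fintype (excDual P) := Fintype.ofFinite _
  haveI : Fintype (Subgroup.normalizer (P : Set G)) := Fintype.ofFinite _
  haveI : Fintype (MulAction.orbitRel.Quotient (Subgroup.normalizer (P : Set G)) (excDual P)) :=
    Fintype.ofFinite _
  have hp0 : 0 < p := hp.out.pos
  have he0 : 0 < e := by
    rcases Nat.eq_zero_or_pos e with h | h
    · rw [h, mul_zero] at hN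
      exact absurd hN Nat.card_pos.ne'
    · exact h
  have hs : ∀ μ : excDual P,
      Nat.card (MulAction.stabilizer (Subgroup.normalizer (P : Set G)) μ) = p := by
    intro μ
    rw [exc_card_stabilizer P hP μ, hC]
  have hcardΩ : Fintype.card (excDual P) = p - 1 := by
    rw [← Nat.card_eq_fintype_card]
    change Nat.card {μ : P →* ℂˣ // μ ≠ 1} = p - 1
    rw [Nat.card_eq_fintype_card, Fintype.card_subtype_compl (fun μ : P →* ℂˣ => μ = 1)]
    simp only [Fintype.card_unique]
    rw [← Nat.card_eq_fintype_card, exc_card_hom P hP]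
  have hcardI : Fintype.card
      (MulAction.orbitRel.Quotient (Subgroup.normalizer (P : Set G)) (excDual P)) = t := by
    have h1 := exc_orbit_card (A := Subgroup.normalizer (P : Set G)) (Ω := excDual P) p hs
    rw [hcardΩ, hN, ← hte] at h1
    have h2 : p * (t * e) = p * (e * Fintype.card
        (MulAction.orbitRel.Quotient (Subgroup.normalizer (P : Set G)) (excDual P))) := by
      rw [h1]; ring
    have h3 := Nat.eq_of_mul_eq_mul_left hp0 h2
    rw [mul_comm t e] at h3
    exact (Nat.eq_of_mul_eq_mul_left he0 h3).symm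
  obtain ⟨n, hn⟩ : ∃ n : MulAction.orbitRel.Quotient (Subgroup.normalizer (P : Set G))
      (excDual P) → Cfsg.IrrCharacter G → ℤ,
      n = fun i χ => excN P (Quotient.out i).hom χ := ⟨_, rfl⟩
  have hgram : ∀ i j, ∑ χ, n i χ * n j χ = (e : ℤ) + if i = j then 1 else 0 := by
    intro i j
    obtain ⟨h1, h2⟩ := excN_gram P hP hC hN (Quotient.out i) (Quotient.out j)
    rw [hn]
    by_cases hij : i = j
    · rw [if_pos hij]
      exact h1 ((exc_out_rel P i j).mpr hij)
    · rw [if_neg hij, add_zero]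
      exact h2 (fun h => hij ((exc_out_rel P i j).mp h))
  have hdeg : ∀ i, ∑ χ : Cfsg.IrrCharacter G, n i χ * (Cfsg.charDegree (χ : G → ℂ) : ℤ) = 0 := by
    intro i
    rw [hn]
    exact excN_degree P _
  have hdpos : ∀ χ : Cfsg.IrrCharacter G, (0 : ℤ) < (Cfsg.charDegree (χ : G → ℂ) : ℤ) := by
    intro χ
    exact_mod_cast (charDegree_irr χ).2
  obtain ⟨ε, θ, w, hε, hθ, hshape⟩ := exc_lattice
    (fun χ : Cfsg.IrrCharacter G => (Cfsg.charDegree (χ : G → ℂ) : ℤ)) hdpos n (e : ℤ) 0 hgram hdeg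
    (by rw [hcardI]; exact ht)
  have hnorm := exc_lattice_norm n (e : ℤ) ε θ w hε
    (fun i => by have := hgram i i; rw [if_pos rfl] at this; exact this) hshape
  have hIpos : 0 < Fintype.card
      (MulAction.orbitRel.Quotient (Subgroup.normalizer (P : Set G)) (excDual P)) := by
    rw [hcardI]; omega
  obtain ⟨i₀⟩ : Nonempty
      (MulAction.orbitRel.Quotient (Subgroup.normalizer (P : Set G)) (excDual P)) :=
    Fintype.card_pos_iff.mp hIpos
  have hconst : ∀ i, w (θ i) = w (θ i₀) := by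
    intro i
    have h1 := hnorm i
    have h2 := hnorm i₀
    rcases hε with h | h <;> rw [h] at h1 h2 <;> linarith
  have htriv : ∀ i, n i (trivIrr G) = 1 := by
    intro i
    rw [hn]
    exact excN_triv P _ (Quotient.out i).hom_ne
  have hθtriv : ∀ i, θ i ≠ trivIrr G := by
    obtain ⟨j₁, hj₁⟩ : ∃ j, j ≠ i₀ := by
      have : 1 < Fintype.card
          (MulAction.orbitRel.Quotient (Subgroup.normalizer (P : Set G)) (excDual P)) := by
        rw [hcardI]; omega
      exact Fintype.exists_ne_of_one_lt_card this i₀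
    have hw1 : w (trivIrr G) = 1 := by
      by_cases h0 : θ i₀ = trivIrr G
      · have h1 : θ j₁ ≠ trivIrr G := by
          intro h
          exact hj₁ (hθ (h.trans h0.symm))
        have h2 := hshape j₁ (trivIrr G)
        rw [htriv, if_neg (Ne.symm h1), add_zero] at h2
        exact h2.symm
      · have h2 := hshape i₀ (trivIrr G)
        rw [htriv, if_neg (Ne.symm h0), add_zero] at h2
        exact h2.symm
    intro i h
    have h2 := hshape i (trivIrr G)
    rw [htriv, if_pos h.symm, hw1] at h2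
    rcases hε with h3 | h3 <;> rw [h3] at h2 <;> omega
  have hw1 : w (trivIrr G) = 1 := by
    have h2 := hshape i₀ (trivIrr G)
    rw [htriv, if_neg (Ne.symm (hθtriv i₀)), add_zero] at h2
    exact h2.symm
  have hsumI : ∀ χ : Cfsg.IrrCharacter G, ∑ i, n i χ =
      (t : ℤ) * w χ + if χ ∈ Finset.univ.image θ then ε else 0 := by
    intro χ
    simp only [hshape, Finset.sum_add_distrib, Finset.sum_const, Finset.card_univ, nsmul_eq_mul]
    rw [hcardI, exc_sum_ind θ hθ χ ε]
  have hcong : ∀ χ : Cfsg.IrrCharacter G, (Cfsg.charDegree (χ : G → ℂ) : ℤ) =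
      (p : ℤ) * (excMult P 1 χ : ℤ) - (e : ℤ) * ∑ i, n i χ := by
    intro χ
    have h1 := excN_sum P hP χ
    have h2 : ∑ lam : P →* ℂˣ, excN P lam χ = ∑ μ : excDual P, excN P μ.hom χ := by
      rw [Fintype.sum_eq_add_sum_subtype_ne (fun lam : P →* ℂˣ => excN P lam χ) 1, excN_one,
        zero_add]
      have h5 : ∀ (inst1 : Fintype {i : P →* ℂˣ // i ≠ 1}) (inst2 : Fintype (excDual P)),
          @Finset.sum _ _ _ (@Finset.univ _ inst1) (fun i => excN P i.1 χ) =
          @Finset.sum _ _ _ (@Finset.univ _ inst2) (fun μ : excDual P => excN P μ.hom χ) := by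
        intro inst1 inst2
        exact @Fintype.sum_equiv _ _ _ inst1 inst2 _ (Equiv.refl _) _ _ (fun _ => rfl)
      exact h5 _ _
    have h3 := exc_orbit_sum (A := Subgroup.normalizer (P : Set G)) (Ω := excDual P) p hs
      (fun μ : excDual P => excN P μ.hom χ) (fun g μ => excN_tw P μ.hom g χ)
    rw [hN] at h3
    have h4 : ∑ μ : excDual P, excN P μ.hom χ = (e : ℤ) * ∑ i, n i χ := by
      have hpz : (p : ℤ) ≠ 0 := by exact_mod_cast hp0.ne'
      apply mul_left_cancel₀ hpz
      rw [h3, hn]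
      push_cast
      ring
    rw [h2, h4] at h1
    linarith
  refine ⟨ε, Finset.univ.image θ, w, w (θ i₀), fun μ => θ (Quotient.mk'' μ), hε, ?_, ?_, ?_, ?_, ?_, ?_, hw1, ?_, ?_, ?_⟩
  · rw [Finset.card_image_of_injective _ hθ, Finset.card_univ, hcardI]
  · intro χ hχ
    obtain ⟨i, -, rfl⟩ := Finset.mem_image.mp hχ
    exact hconst i
  · exact hnorm i₀
  · intro χ hχ
    obtain ⟨i, -, rfl⟩ := Finset.mem_image.mp hχ
    have h1 := hdeg i
    have h2 : ∑ x : Cfsg.IrrCharacter G,
        (if x = θ i then ε else 0) * (Cfsg.charDegree (x : G → ℂ) : ℤ) =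
        ε * (Cfsg.charDegree (θ i : G → ℂ) : ℤ) := by
      rw [Finset.sum_eq_single (θ i)]
      · rw [if_pos rfl]
      · intro b _ hb
        rw [if_neg hb, zero_mul]
      · intro h; exact absurd (Finset.mem_univ _) h
    simp only [hshape, add_mul, Finset.sum_add_distrib] at h1
    rw [h2] at h1
    exact h1
  · intro χ hχ
    refine ⟨(excMult P 1 χ : ℤ), ?_⟩
    rw [hcong χ, hsumI χ, if_pos hχ]
  · intro χ hχ
    refine ⟨(excMult P 1 χ : ℤ), ?_⟩
    rw [hcong χ, hsumI χ, if_neg hχ, add_zero]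
  · intro h
    obtain ⟨i, -, hi⟩ := Finset.mem_image.mp h
    exact hθtriv i hi

  · intro μ
    exact Finset.mem_image_of_mem θ (Finset.mem_univ _)
  · intro μ χ
    have h1 := hshape (Quotient.mk'' μ) χ
    rw [← h1, hn]
    have h2 : (Quotient.mk'' (Quotient.out (Quotient.mk'' μ :
        MulAction.orbitRel.Quotient (Subgroup.normalizer (P : Set G)) (excDual P))) :
        MulAction.orbitRel.Quotient (Subgroup.normalizer (P : Set G)) (excDual P)) =
        Quotient.mk'' μ := Quotient.out_eq' _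
    have h3 := Quotient.exact' h2
    rw [MulAction.orbitRel_apply] at h3
    obtain ⟨g, hg⟩ := h3
    have h4 : (Quotient.out (Quotient.mk'' μ :
        MulAction.orbitRel.Quotient (Subgroup.normalizer (P : Set G)) (excDual P))).hom =
        excTw P g μ.hom := by
      rw [← exc_smul_hom, ← hg]
    change excN P μ.hom χ = excN P (Quotient.out (Quotient.mk'' μ :
        MulAction.orbitRel.Quotient (Subgroup.normalizer (P : Set G)) (excDual P))).hom χ
    rw [h4, excN_tw]

end Cfsg.Agent.Lib.Helper1.O4032
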