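import Mathlib
import Cfsg.Agent.Lib.Helper1.Ord4032.ExcPlus
import Cfsg.Agent.Lib.Helper26.Ord3744

set_option autoImplicit false
set_option linter.style.haveILetI false
set_option linter.unusedSectionVars false
set_option linter.unusedVariables false

namespace Cfsg.Agent.Lib.Helper1.O4032

open Cfsg.Agent.Lib.Helper26

theorem struct_lemma {X : Type*} [Fintype X] [DecidableEq X] (S : Finset X) (w d : X → ℤ)
    (x₀ : X) (a ε : ℤ) (hε : ε = 1 ∨ ε = -1) (hS : S.card = 3) (hx₀ : x₀ ∉ S) (hw₀ : w x₀ = 1)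
    (hwa : ∀ x ∈ S, w x = a) (hnorm : ∑ x, w x ^ 2 + 2 * ε * a = 2) (hd₀ : d x₀ = 1)
    (hdeg : ∀ θ ∈ S, ∑ x, w x * d x + ε * d θ = 0) :
    a = 0 ∧ ∃ x₁, x₁ ≠ x₀ ∧ x₁ ∉ S ∧ (w x₁ = 1 ∨ w x₁ = -1) ∧
      (∀ z, z ≠ x₀ → z ≠ x₁ → w z = 0) ∧ ∀ θ ∈ S, 1 + w x₁ * d x₁ + ε * d θ = 0 := by
  have h1 : ∑ x ∈ insert x₀ S, w x ^ 2 ≤ ∑ x, w x ^ 2 :=
    Finset.sum_le_univ_sum_of_nonneg (fun x => sq_nonneg _)
  have h1' : ∑ x ∈ insert x₀ S, w x ^ 2 = 1 + 3 * a ^ 2 := by
    rw [Finset.sum_insert hx₀, hw₀, Finset.sum_congr rfl (fun x hx => by rw [hwa x hx]),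
      Finset.sum_const, hS]
    simp
  rw [h1'] at h1
  have ha : a = 0 ∨ a = -ε := by
    rcases hε with h | h <;> rw [h] at hnorm ⊢
    · have : a = 0 ∨ a = -1 := by
        have h3 : 3 * a ^ 2 + 2 * a ≤ 1 := by linarith
        have h4 : -1 ≤ a := by nlinarith
        have h5 : a ≤ 0 := by nlinarith
        omega
      exact this
    · have : a = 0 ∨ a = 1 := by
        have h3 : 3 * a ^ 2 - 2 * a ≤ 1 := by linarith
        have h4 : a ≤ 1 := by nlinarith
        have h5 : 0 ≤ a := by nlinarith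
        omega
      simpa using this
  obtain ⟨θ₀, hθ₀⟩ : S.Nonempty := by
    rw [← Finset.card_pos, hS]; norm_num
  rcases ha with ha | ha
  · subst ha
    refine ⟨rfl, ?_⟩
    have hnorm2 : ∑ x, w x ^ 2 = 2 := by linarith
    obtain ⟨x₁, hx₁, hc, hz⟩ := exc_support_two w x₀ hw₀ hnorm2
    have hx₁S : x₁ ∉ S := by
      intro h
      have := hwa x₁ h
      rcases hc with hc | hc <;> rw [hc] at this <;> norm_num at this
    refine ⟨x₁, hx₁, hx₁S, hc, hz, ?_⟩
    intro θ hθ
    have hsum := exc_sum_two_support w d x₀ x₁ (Ne.symm hx₁) hz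
    have := hdeg θ hθ
    rw [hsum, hw₀, hd₀] at this
    linarith
  · exfalso
    have hnorm2 : ∑ x, w x ^ 2 = 4 := by
      rw [ha] at hnorm
      have : ε * ε = 1 := by rcases hε with h | h <;> rw [h] <;> norm_num
      nlinarith
    have hzero : ∀ z, z ∉ insert x₀ S → w z = 0 := by
      intro z hz
      by_contra hne
      have h2 : ∑ x ∈ insert z (insert x₀ S), w x ^ 2 ≤ ∑ x, w x ^ 2 :=
        Finset.sum_le_univ_sum_of_nonneg (fun x => sq_nonneg _)
      rw [Finset.sum_insert hz, h1', hnorm2, ha] at h2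
      have h3 : 1 ≤ w z ^ 2 := by
        have : w z ≤ -1 ∨ 1 ≤ w z := by omega
        rcases this with h | h <;> nlinarith
      have : (-ε) ^ 2 = 1 := by rcases hε with h | h <;> rw [h] <;> norm_num
      rw [this] at h2
      linarith
    have hsum : ∑ x, w x * d x = ∑ x ∈ insert x₀ S, w x * d x := by
      symm
      apply Finset.sum_subset (Finset.subset_univ _)
      intro z _ hz
      rw [hzero z hz, zero_mul]
    have hdeq : ∀ θ ∈ S, d θ = d θ₀ := by
      intro θ hθ
      have e1 := hdeg θ hθ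
      have e2 := hdeg θ₀ hθ₀
      have : ε * d θ = ε * d θ₀ := by linarith
      rcases hε with h | h <;> rw [h] at this <;> linarith
    have hsum2 : ∑ x ∈ insert x₀ S, w x * d x = 1 + 3 * (a * d θ₀) := by
      rw [Finset.sum_insert hx₀, hw₀, hd₀,
        Finset.sum_congr rfl (fun x hx => by rw [hwa x hx, hdeq x hx]), Finset.sum_const, hS]
      simp
    have := hdeg θ₀ hθ₀
    rw [hsum, hsum2, ha] at this
    rcases hε with h | h <;> rw [h] at this <;> omega

theorem arith288 (d₁ d₀ : ℕ) (c ε m m' : ℤ) (hc : c = 1 ∨ c = -1) (hε : ε = 1 ∨ ε = -1)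
    (hd₁ : d₁ ∣ 4032) (hd₀ : d₀ ∣ 4032) (hd₁1 : d₁ ≠ 1)
    (h1 : (d₁ : ℤ) = 7 * m - 2 * (3 * c))
    (h0 : (d₀ : ℤ) = 7 * m' - 2 * (3 * 0 + ε))
    (hdeg : 1 + c * d₁ + ε * d₀ = 0) : c = 1 ∧ ε = -1 ∧ d₁ = 8 ∧ d₀ = 9 := by
  have hmem : d₁ ∈ Nat.divisors 4032 := Nat.mem_divisors.mpr ⟨hd₁, by norm_num⟩
  have hmem0 : d₀ ∈ Nat.divisors 4032 := Nat.mem_divisors.mpr ⟨hd₀, by norm_num⟩
  rcases hc with hc | hc
  · subst hc
    have hmod : d₁ % 7 = 1 := by omega
    have hmem' : d₁ ∈ (Nat.divisors 4032).filter (fun d => d % 7 = 1) :=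
      Finset.mem_filter.mpr ⟨hmem, hmod⟩
    have e1 : (Nat.divisors 4032).filter (fun d => d % 7 = 1) = {1, 8, 36, 64, 288} := by
      decide +kernel
    rw [e1] at hmem'
    simp only [Finset.mem_insert, Finset.mem_singleton] at hmem'
    rcases hε with hε | hε
    · subst hε
      omega
    · subst hε
      rcases hmem' with h | h | h | h | h
      · exact absurd h hd₁1
      · subst h
        refine ⟨rfl, rfl, rfl, ?_⟩
        omega
      · subst h
        have : d₀ = 37 := by omega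
        subst this
        norm_num at hd₀
      · subst h
        have : d₀ = 65 := by omega
        subst this
        norm_num at hd₀
      · subst h
        have : d₀ = 289 := by omega
        subst this
        norm_num at hd₀
  · subst hc
    have hmod : d₁ % 7 = 6 := by omega
    have hmem' : d₁ ∈ (Nat.divisors 4032).filter (fun d => d % 7 = 6) :=
      Finset.mem_filter.mpr ⟨hmem, hmod⟩
    have e1 : (Nat.divisors 4032).filter (fun d => d % 7 = 6) = {6, 48} := by
      decide +kernel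
    rw [e1] at hmem'
    simp only [Finset.mem_insert, Finset.mem_singleton] at hmem'
    rcases hε with hε | hε
    · subst hε
      rcases hmem' with h | h
      · subst h
        have : d₀ = 5 := by omega
        subst this
        norm_num at hd₀
      · subst h
        have : d₀ = 47 := by omega
        subst this
        norm_num at hd₀
    · subst hε
      omega

end Cfsg.Agent.Lib.Helper1.O4032
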