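import Mathlib
import Cfsg.Agent.Lib.Helper1.Ord4032.Struct288

set_option autoImplicit false
set_option linter.style.haveILetI false
set_option linter.unusedSectionVars false
set_option linter.unusedVariables false

namespace Cfsg.Agent.Lib.Helper1.O4032

open scoped ComplexConjugate
open Cfsg.Agent.Lib.Helper11 Cfsg.Agent.Lib.helper7 Cfsg.Agent.Lib.Helper25 Cfsg.Agent.Lib.helper2
open Cfsg.Agent.Lib.Helper26

variable {G : Type*} [Group G]

theorem phi_expansion [Fintype G] [Fintype (Cfsg.IrrCharacter G)] (P : Subgroup G) [Fintype P]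
    (lam : P →* ℂˣ) (g : G) :
    Cfsg.indFun P (excBeta lam) g =
      ∑ χ : Cfsg.IrrCharacter G, ((excN P lam χ : ℤ) : ℂ) * (χ : G → ℂ) g := by
  have h := classFunction_expansion (Cfsg.indFun P (excBeta lam))
    (h7_indFun_isClassFunction P (excBeta lam))
  have h1 := congrFun h g
  rw [h1, Finset.sum_apply]
  refine Finset.sum_congr rfl fun χ _ => ?_
  rw [Pi.smul_apply, smul_eq_mul, excN_spec]

theorem phi_vanish [Fintype G] (P : Subgroup G) (φ : P → ℂ) (g : G)
    (hg : ∀ x : G, x⁻¹ * g * x ∉ P) : Cfsg.indFun P φ g = 0 := by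
  unfold Cfsg.indFun
  rw [Finset.sum_eq_zero, mul_zero]
  intro x _
  exact h7_extendByZero_not_mem P φ _ (hg x)

theorem sum_conj_restrict [Fintype G] (P : Subgroup G) [Fintype P] (χ : Cfsg.IrrCharacter G) :
    ∑ y : P, conj ((χ : G → ℂ) y) = (Nat.card P : ℂ) * (excMult P 1 χ : ℂ) := by
  have h := excMult_spec P (1 : P →* ℂˣ) χ
  unfold Cfsg.classInner at h
  have hne : (Nat.card P : ℂ) ≠ 0 := by exact_mod_cast Nat.card_pos.ne'
  have h2 : ∑ y : P, linFun (1 : P →* ℂˣ) y * conj ((fun y : P => (χ : G → ℂ) y) y) =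
      ∑ y : P, conj ((χ : G → ℂ) y) := by
    refine Finset.sum_congr rfl fun y _ => ?_
    rw [linFun_apply, MonoidHom.one_apply, Units.val_one, one_mul]
  rw [h2] at h
  rw [← h]
  field_simp

theorem sum_punctured [Fintype G] (P : Subgroup G) [Fintype P] {p : ℕ} [hp : Fact p.Prime]
    (hP : Nat.card P = p) [Fintype (excDual P)] [DecidableEq P] (χ : Cfsg.IrrCharacter G) :
    ∑ y : P, (if y = 1 then 0 else conj ((χ : G → ℂ) y)) =
      ∑ μ : excDual P, ((excN P μ.hom χ : ℤ) : ℂ) := by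
  classical
  haveI : Finite (P →* ℂˣ) := exc_finite_hom P hP
  haveI : Fintype (P →* ℂˣ) := Fintype.ofFinite _
  have h1 := excN_sum P hP χ
  have h2 : ∑ lam : P →* ℂˣ, excN P lam χ = ∑ μ : excDual P, excN P μ.hom χ := by
    rw [Fintype.sum_eq_add_sum_subtype_ne (fun lam : P →* ℂˣ => excN P lam χ) 1, excN_one,
      zero_add]
    have h5 : ∀ (inst1 : Fintype {i : P →* ℂˣ // i ≠ 1}) (inst2 : Fintype (excDual P)),
        @Finset.sum _ _ _ (@Finset.univ _ inst1) (fun i => excN P i.1 χ) =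
        @Finset.sum _ _ _ (@Finset.univ _ inst2) (fun μ : excDual P => excN P μ.hom χ) := by
      intro inst1 inst2
      exact @Fintype.sum_equiv _ _ _ inst1 inst2 _ (Equiv.refl _) _ _ (fun _ => rfl)
    exact h5 _ _
  rw [h2] at h1
  have h3 : ∑ y : P, (if y = 1 then 0 else conj ((χ : G → ℂ) y)) =
      ∑ y : P, conj ((χ : G → ℂ) y) - conj ((χ : G → ℂ) 1) := by
    have : ∀ y : P, (if y = 1 then 0 else conj ((χ : G → ℂ) y)) =
        conj ((χ : G → ℂ) y) - (if y = 1 then conj ((χ : G → ℂ) 1) else 0) := by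
      intro y
      by_cases hy : y = 1
      · rw [if_pos hy, if_pos hy, hy]
        simp
      · rw [if_neg hy, if_neg hy, sub_zero]
    simp only [this, Finset.sum_sub_distrib, Finset.sum_ite_eq', Finset.mem_univ, if_true]
  rw [h3, sum_conj_restrict, hP, ← (charDegree_irr χ).1, Complex.conj_natCast]
  have h4 : ((∑ μ : excDual P, excN P μ.hom χ : ℤ) : ℂ) =
      (p : ℂ) * (excMult P 1 χ : ℂ) - (Cfsg.charDegree (χ : G → ℂ) : ℂ) := by
    rw [h1]
    push_cast
    ring
  rw [← h4]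
  push_cast
  rfl

end Cfsg.Agent.Lib.Helper1.O4032
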