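import Mathlib
import Cfsg.Agent.Lib.helper23.OrdGen3

set_option autoImplicit false
set_option linter.unusedVariables false
set_option linter.unusedSectionVars false
set_option linter.style.haveILetI false

namespace Cfsg.Agent.Lib.Helper1.O4032

open Cfsg.Agent.Lib.helper8 Cfsg.Agent.Lib.helper23

structure Dih (G : Type*) [Group G] (p : ℕ) where
  P : Subgroup G
  hp : p.Prime
  hp2 : p ≠ 2
  hP : Nat.card P = p
  hN : Nat.card (Subgroup.normalizer (P : Set G)) = 2 * p
  hC : Nat.card (Subgroup.centralizer (P : Set G)) = p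

namespace Dih

variable {G : Type*} [Group G] [Finite G] {p : ℕ} (D : Dih G p)

theorem P_le_N : D.P ≤ Subgroup.normalizer (D.P : Set G) := Subgroup.le_normalizer

theorem P_le_C : D.P ≤ Subgroup.centralizer (D.P : Set G) := by
  haveI : IsCyclic D.P := isCyclic_of_prime_card (hp := ⟨D.hp⟩) D.hP
  exact Subgroup.le_centralizer_iff_isMulCommutative.mpr inferInstance

theorem C_eq_P : Subgroup.centralizer (D.P : Set G) = D.P :=
  (Subgroup.eq_of_le_of_card_ge D.P_le_C (by rw [D.hC, D.hP])).symm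

theorem index_two : (D.P.subgroupOf (Subgroup.normalizer (D.P : Set G))).index = 2 := by
  have h := h8_card_mul_relIndex D.P_le_N
  rw [D.hP, D.hN] at h
  have hp0 : 0 < p := D.hp.pos
  have : D.P.relIndex (Subgroup.normalizer (D.P : Set G)) = 2 := by
    have h2 : p * D.P.relIndex (Subgroup.normalizer (D.P : Set G)) = p * 2 := by
      rw [h]; ring
    exact Nat.eq_of_mul_eq_mul_left hp0 h2
  exact this

theorem mul_mem_P (s t : G) (hs : s ∈ Subgroup.normalizer (D.P : Set G))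
    (ht : t ∈ Subgroup.normalizer (D.P : Set G)) :
    s * t ∈ D.P ↔ (s ∈ D.P ↔ t ∈ D.P) := by
  have h := Subgroup.mul_mem_iff_of_index_two D.index_two
    (a := (⟨s, hs⟩ : Subgroup.normalizer (D.P : Set G))) (b := ⟨t, ht⟩)
  simp only [Subgroup.mem_subgroupOf] at h
  exact h

theorem sq_eq_one (s : G) (hs : s ∈ Subgroup.normalizer (D.P : Set G)) (hsP : s ∉ D.P) :
    s * s = 1 := by
  by_contra hne
  have h1 : s * s ∈ D.P := (D.mul_mem_P s s hs hs).mpr Iff.rfl
  have h2 : Subgroup.zpowers (s * s) = D.P :=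
    h8_zpowers_eq_of_prime_card p D.hp D.P D.hP (s * s) h1 hne
  apply hsP
  rw [← D.C_eq_P, Subgroup.mem_centralizer_iff]
  intro v hv
  rw [← h2] at hv
  obtain ⟨i, rfl⟩ := Subgroup.mem_zpowers_iff.mp hv
  have hc : Commute (s * s) s := by
    unfold Commute SemiconjBy
    group
  exact (hc.zpow_left i).eq

theorem inv_eq_self (s : G) (hs : s ∈ Subgroup.normalizer (D.P : Set G)) (hsP : s ∉ D.P) :
    s⁻¹ = s := inv_eq_of_mul_eq_one_left (D.sq_eq_one s hs hsP)

theorem inverts (s : G) (hs : s ∈ Subgroup.normalizer (D.P : Set G)) (hsP : s ∉ D.P)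
    (v : G) (hv : v ∈ D.P) : s * v * s⁻¹ = v⁻¹ := by
  have hsvN : s * v ∈ Subgroup.normalizer (D.P : Set G) :=
    Subgroup.mul_mem _ hs (D.P_le_N hv)
  have hsvP : s * v ∉ D.P := by
    intro h
    have := (D.mul_mem_P s v hs (D.P_le_N hv)).mp h
    exact hsP (this.mpr hv)
  have h1 := D.sq_eq_one (s * v) hsvN hsvP
  rw [D.inv_eq_self s hs hsP]
  have h2 : s * v * s = v⁻¹ := by
    have : s * v * s * v = 1 := by rw [← h1]; group
    exact eq_inv_of_mul_eq_one_left this
  exact h2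

theorem not_mem_of_order_two (s : G) (hs : orderOf s = 2) : s ∉ D.P := by
  intro h
  have h1 := Subgroup.orderOf_dvd_natCard _ h
  rw [hs, D.hP] at h1
  have := (Nat.prime_dvd_prime_iff_eq Nat.prime_two D.hp).mp h1
  exact D.hp2 this.symm

theorem orderOf_eq_two (s : G) (hs : s ∈ Subgroup.normalizer (D.P : Set G)) (hsP : s ∉ D.P) :
    orderOf s = 2 := by
  apply orderOf_eq_prime
  · rw [pow_two]; exact D.sq_eq_one s hs hsP
  · intro h
    rw [h] at hsP
    exact hsP (Subgroup.one_mem _)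

theorem pow_p (v : G) (hv : v ∈ D.P) : v ^ p = 1 := by
  have := Subgroup.orderOf_dvd_natCard _ hv
  rw [D.hP] at this
  exact orderOf_dvd_iff_pow_eq_one.mp this

theorem conj_all (u s : G) (hu : u ∈ Subgroup.normalizer (D.P : Set G)) (huP : u ∉ D.P)
    (hs : s ∈ Subgroup.normalizer (D.P : Set G)) (hsP : s ∉ D.P) : IsConj u s := by
  have huinv := D.inv_eq_self u hu huP
  have hv : u⁻¹ * s ∈ D.P := by
    rw [D.mul_mem_P u⁻¹ s (Subgroup.inv_mem _ hu) hs, huinv]
    exact ⟨fun h => absurd h huP, fun h => absurd h hsP⟩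
  set v := u⁻¹ * s with hvdef
  have hs' : s = u * v := by rw [hvdef]; group
  obtain ⟨k, hk⟩ : ∃ k, p = 2 * k + 1 := by
    rcases D.hp.eq_two_or_odd' with h | h
    · exact absurd h D.hp2
    · exact h
  rw [isConj_iff]
  refine ⟨v ^ k, ?_⟩
  have hvk : v ^ k ∈ D.P := Subgroup.pow_mem _ hv k
  have h1 : u * v ^ k * u⁻¹ = (v ^ k)⁻¹ := D.inverts u hu huP _ hvk
  have h2 : u⁻¹ * v ^ k * u = (v ^ k)⁻¹ := by
    have := h1
    rw [huinv] at this ⊢
    exact this
  have h3 : v ^ k * u * (v ^ k)⁻¹ = u * ((v ^ k)⁻¹ * (v ^ k)⁻¹) := by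
    calc v ^ k * u * (v ^ k)⁻¹ = u * (u⁻¹ * v ^ k * u) * (v ^ k)⁻¹ := by group
      _ = u * ((v ^ k)⁻¹ * (v ^ k)⁻¹) := by rw [h2, mul_assoc]
  rw [h3, hs']
  congr 1
  have h4 : v ^ p = 1 := D.pow_p v hv
  rw [hk, pow_succ, pow_mul, pow_two] at h4
  have h5 : (v * v) ^ k = v ^ k * v ^ k := by
    rw [← pow_two, ← pow_mul, two_mul, pow_add]
  rw [h5] at h4
  calc (v ^ k)⁻¹ * (v ^ k)⁻¹ = (v ^ k)⁻¹ * (v ^ k)⁻¹ * (v ^ k * v ^ k * v) := by rw [h4, mul_one]
    _ = v := by group

theorem count_pairs (u : G) (hu : u ∈ Subgroup.normalizer (D.P : Set G)) (hu2 : orderOf u = 2)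
    (y : G) (hy : y ∈ D.P) (hy1 : y ≠ 1) :
    Nat.card {q : G × G // IsConj u q.1 ∧ IsConj u q.2 ∧ q.1 * q.2 = y} = p := by
  classical
  have huP : u ∉ D.P := D.not_mem_of_order_two u hu2
  have hzp : Subgroup.zpowers y = D.P := h8_zpowers_eq_of_prime_card p D.hp D.P D.hP y hy hy1
  have hord : ∀ s : G, IsConj u s → orderOf s = 2 := by
    intro s hs
    obtain ⟨c, hc⟩ := isConj_iff.mp hs
    rw [← hc]
    have := h8_orderOf_conj c⁻¹ u
    rw [inv_inv] at this
    rw [this, hu2]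
  have hmemN : ∀ s : G, orderOf s = 2 → s * y * s⁻¹ = y⁻¹ →
      s ∈ Subgroup.normalizer (D.P : Set G) := by
    intro s hs2 hinv
    have hss : s * s = 1 := by rw [← pow_two, ← hs2]; exact pow_orderOf_eq_one s
    have hsinv : s⁻¹ = s := inv_eq_of_mul_eq_one_left hss
    have hfwd : ∀ h ∈ D.P, s * h * s⁻¹ ∈ D.P := by
      intro h hh
      rw [← hzp] at hh ⊢
      obtain ⟨i, rfl⟩ := Subgroup.mem_zpowers_iff.mp hh
      rw [← conj_zpow, hinv]
      exact Subgroup.zpow_mem _ (Subgroup.inv_mem _ (Subgroup.mem_zpowers y)) _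
    rw [Subgroup.mem_normalizer_iff]
    intro h
    refine ⟨hfwd h, fun hh => ?_⟩
    have := hfwd _ hh
    rw [hsinv] at this
    have e : s * (s * h * s) * s = h := by
      calc s * (s * h * s) * s = (s * s) * h * (s * s) := by group
        _ = h := by rw [hss, one_mul, mul_one]
    rwa [e] at this
  have hcod : Nat.card {s : G // s ∈ Subgroup.normalizer (D.P : Set G) ∧ s ∉ D.P} = p := by
    have h1 : Nat.card {s : G // s ∈ Subgroup.normalizer (D.P : Set G) ∧ s ∉ D.P} =
        (((Subgroup.normalizer (D.P : Set G) : Subgroup G) : Set G) \ (D.P : Set G)).ncard := by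
      rw [← Nat.card_coe_set_eq]
      rfl
    have h2 := Set.ncard_sdiff (s := (D.P : Set G))
      (t := ((Subgroup.normalizer (D.P : Set G) : Subgroup G) : Set G)) D.P_le_N
      (Set.toFinite _)
    have h3 : ((Subgroup.normalizer (D.P : Set G) : Subgroup G) : Set G).ncard = 2 * p := by
      rw [← Nat.card_coe_set_eq]
      exact D.hN
    have h4 : (D.P : Set G).ncard = p := by
      rw [← Nat.card_coe_set_eq]
      exact D.hP
    rw [h1, h2, h3, h4]
    omega
  rw [← hcod]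
  apply Nat.card_congr
  refine
    { toFun := fun q => ⟨q.1.1, ?_⟩
      invFun := fun s => ⟨(s.1, s.1⁻¹ * y), ?_⟩
      left_inv := ?_
      right_inv := ?_ }
  · obtain ⟨⟨s, t⟩, h1, h2, h3⟩ := q
    simp only at h1 h2 h3 ⊢
    have hs2 := hord s h1
    have ht2 := hord t h2
    have hss : s * s = 1 := by rw [← pow_two, ← hs2]; exact pow_orderOf_eq_one s
    have htt : t * t = 1 := by rw [← pow_two, ← ht2]; exact pow_orderOf_eq_one t
    have hsinv : s⁻¹ = s := inv_eq_of_mul_eq_one_left hss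
    have htinv : t⁻¹ = t := inv_eq_of_mul_eq_one_left htt
    have hinv : s * y * s⁻¹ = y⁻¹ := by
      rw [← h3, mul_inv_rev, hsinv, htinv]
      calc s * (s * t) * s = (s * s) * t * s := by group
        _ = t * s := by rw [hss, one_mul]
    exact ⟨hmemN s hs2 hinv, D.not_mem_of_order_two s hs2⟩
  · obtain ⟨s, hsN, hsP⟩ := s
    simp only
    refine ⟨D.conj_all u s hu huP hsN hsP, ?_, by group⟩
    apply D.conj_all u _ hu huP
    · exact Subgroup.mul_mem _ (Subgroup.inv_mem _ hsN) (D.P_le_N hy)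
    · intro h
      have := (D.mul_mem_P s⁻¹ y (Subgroup.inv_mem _ hsN) (D.P_le_N hy)).mp h
      have h2 := this.mpr hy
      exact hsP (by simpa using Subgroup.inv_mem _ h2)
  · intro q
    obtain ⟨⟨s, t⟩, h1, h2, h3⟩ := q
    apply Subtype.ext
    simp only
    rw [← h3]
    congr 1
    group
  · intro s
    rfl

end Dih

end Cfsg.Agent.Lib.Helper1.O4032
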