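import Mathlib
import Cfsg.Agent.Lib.Helper1.Ord4032.Char288
import Cfsg.Agent.Lib.Helper1.Ord4032.DihCount
import Cfsg.Agent.Lib.Helper1.Ord4032.Basic
import Cfsg.Agent.Lib.Helper24.AF3Key
import Cfsg.Agent.S0840

set_option autoImplicit false
set_option linter.style.haveILetI false
set_option linter.unusedSectionVars false
set_option linter.unusedVariables false

namespace Cfsg.Agent.Lib.Helper1.O4032

open scoped ComplexConjugate
open Cfsg.Agent.Lib.Helper11 Cfsg.Agent.Lib.helper7 Cfsg.Agent.Lib.Helper25 Cfsg.Agent.Lib.helper2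
open Cfsg.Agent.Lib.Helper26 Cfsg.Agent.Lib.helper8 Cfsg.Agent.Lib.helper23
open Cfsg.Agent.Lib.Helper24

theorem T_sum {X : Type*} [Fintype X] [DecidableEq X] (w : X → ℤ) (x₀ x₁ θ : X) (hx : x₁ ≠ x₀)
    (hw₀ : w x₀ = 1) (hw₁ : w x₁ = 1) (hz : ∀ z, z ≠ x₀ → z ≠ x₁ → w z = 0) (F : X → ℂ) :
    ∑ x, (((w x + if x = θ then (-1 : ℤ) else 0 : ℤ) : ℤ) : ℂ) * F x = F x₀ + F x₁ - F θ := by
  have h1 : ∀ x, (((w x + if x = θ then (-1 : ℤ) else 0 : ℤ) : ℤ) : ℂ) * F x =
      ((w x : ℤ) : ℂ) * F x + (if x = θ then -F x else 0) := by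
    intro x
    by_cases h : x = θ
    · rw [if_pos h, if_pos h]
      push_cast
      ring
    · rw [if_neg h, if_neg h]
      push_cast
      ring
  simp only [h1, Finset.sum_add_distrib, Finset.sum_ite_eq', Finset.mem_univ, if_true]
  have h2 : ∑ x, ((w x : ℤ) : ℂ) * F x = F x₀ + F x₁ := by
    rw [Finset.sum_eq_add x₀ x₁ (Ne.symm hx)]
    · rw [hw₀, hw₁]
      push_cast
      ring
    · intro c _ hc
      rw [hz c hc.1 hc.2]
      push_cast
      ring
    · intro h; exact absurd (Finset.mem_univ _) h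
    · intro h; exact absurd (Finset.mem_univ _) h
  rw [h2]
  ring

theorem no_sq (n : ℕ) (h : n * n = 2032128) : False := by
  have h1 : n < 1426 := by
    by_contra hge
    have : 1426 ≤ n := by omega
    nlinarith
  have h2 : 1425 < n := by
    by_contra hle
    have : n ≤ 1425 := by omega
    nlinarith
  omega

variable {G : Type*} [Group G] [Finite G] [IsSimpleGroup G]

theorem case288 (hG : Nat.card G = 4032) [Fact (Nat.Prime 7)]
    (h288 : Nat.card (Sylow 7 G) = 288) : False := by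
  classical
  haveI : Fintype G := Fintype.ofFinite G
  haveI : Fintype (Cfsg.IrrCharacter G) := Fintype.ofFinite _
  have hnc := nc hG
  obtain ⟨P⟩ : Nonempty (Sylow 7 G) := inferInstance
  obtain ⟨hP, hN, hX, r, hr, hr1, hC⟩ := setup hG P
  rw [h288] at hN
  have hN14 : Nat.card (Subgroup.normalizer ((P : Subgroup G) : Set G)) = 7 * 2 := by omega
  have hr6 : r ≤ 6 := Nat.le_of_dvd (by norm_num) hr
  have hC7 : Nat.card (Subgroup.centralizer ((P : Subgroup G) : Set G)) = 7 := by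
    rw [hN14] at hC
    interval_cases r <;> omega
  haveI : Fintype (P : Subgroup G) := Fintype.ofFinite _
  obtain ⟨ε, S, w, a, θ', hε, hS, hwa, hnorm, hdeg, hcS, hcN, hw1, htS, hθS, hshape⟩ :=
    exc_main2 (P : Subgroup G) (p := 7) (e := 2) (t := 3) hP hC7 hN14 (by norm_num) (by norm_num)
  obtain ⟨ha0, χ₁, hχ₁, hχ₁S, hc, hz, hrel⟩ := struct_lemma S w
    (fun χ => (Cfsg.charDegree (χ : G → ℂ) : ℤ)) (trivIrr G) a ε hε hS htS hw1 hwa
    (by exact_mod_cast hnorm) (by rw [exc_degree_triv]; rfl) hdeg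
  subst ha0
  have hdS : ∀ θ ∈ S, w χ₁ = 1 ∧ ε = -1 ∧ Cfsg.charDegree (χ₁ : G → ℂ) = 8 ∧
      Cfsg.charDegree (θ : G → ℂ) = 9 := by
    intro θ hθ
    obtain ⟨m, hm⟩ := hcN χ₁ hχ₁S
    obtain ⟨m', hm'⟩ := hcS θ hθ
    rw [hwa θ hθ] at hm'
    refine arith288 (Cfsg.charDegree (χ₁ : G → ℂ)) (Cfsg.charDegree (θ : G → ℂ)) (w χ₁) ε m m'
      hc hε (by rw [← hG]; exact cdc_degree_dvd χ₁) (by rw [← hG]; exact cdc_degree_dvd θ)
      (fun h => hχ₁ (exc_linear_trivial hnc χ₁ h)) ?_ ?_ (hrel θ hθ)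
    · rw [hm]
      push_cast
      ring
    · rw [hm']
      push_cast
      ring
  haveI : Finite (P →* ℂˣ) := exc_finite_hom (P : Subgroup G) hP
  haveI : Fintype (P →* ℂˣ) := Fintype.ofFinite _
  haveI : Finite (excDual (P : Subgroup G)) :=
    (Subtype.finite : Finite {μ : (P : Subgroup G) →* ℂˣ // μ ≠ 1})
  haveI : Fintype (excDual (P : Subgroup G)) := Fintype.ofFinite _
  have hcardΩ : Fintype.card (excDual (P : Subgroup G)) = 6 := by
    rw [← Nat.card_eq_fintype_card]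
    change Nat.card {μ : (P : Subgroup G) →* ℂˣ // μ ≠ 1} = 6
    rw [Nat.card_eq_fintype_card, Fintype.card_subtype_compl
      (fun μ : (P : Subgroup G) →* ℂˣ => μ = 1)]
    simp only [Fintype.card_unique]
    rw [← Nat.card_eq_fintype_card, exc_card_hom (P : Subgroup G) hP]
  obtain ⟨μ₀⟩ : Nonempty (excDual (P : Subgroup G)) := by
    apply Fintype.card_pos_iff.mp
    rw [hcardΩ]
    norm_num
  obtain ⟨hw11, hε1, hd8, -⟩ := hdS (θ' μ₀) (hθS μ₀)
  subst hε1
  have hd9 : ∀ μ, Cfsg.charDegree (θ' μ : G → ℂ) = 9 := fun μ => (hdS (θ' μ) (hθS μ)).2.2.2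
  let D : Dih G 7 := ⟨(P : Subgroup G), by norm_num, by norm_num, hP, by rw [hN14], hC7⟩
  obtain ⟨u', hu'⟩ := exists_prime_orderOf_dvd_card' (G := Subgroup.normalizer
    ((P : Subgroup G) : Set G)) 2 (by rw [hN14]; norm_num)
  have hu2 : orderOf (u' : G) = 2 := by rw [Subgroup.orderOf_coe]; exact hu'
  set u : G := (u' : G) with hudef
  have huN : u ∈ Subgroup.normalizer ((P : Subgroup G) : Set G) := u'.2
  have hconjP : ∀ x : G, x⁻¹ * u * x ∉ (P : Subgroup G) := by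
    intro x
    apply D.not_mem_of_order_two
    rw [h8_orderOf_conj, hu2]
  obtain ⟨au, hau⟩ := af3_invol_int χ₁ u hu2
  have hTriv1 : (trivIrr G : G → ℂ) 1 = 1 := trivIrr_apply G 1
  have hχ₁1 : (χ₁ : G → ℂ) 1 = 8 := by
    rw [← (charDegree_irr χ₁).1, hd8]
    norm_num
  have hθ1 : ∀ μ, (θ' μ : G → ℂ) 1 = 9 := by
    intro μ
    rw [← (charDegree_irr (θ' μ)).1, hd9 μ]
    norm_num
  have hθu : ∀ μ, (θ' μ : G → ℂ) u = 1 + (au : ℂ) := by
    intro μ
    have h1 := phi_expansion (P : Subgroup G) μ.hom u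
    rw [phi_vanish (P : Subgroup G) _ u hconjP] at h1
    have h2 : ∑ χ : Cfsg.IrrCharacter G, ((excN (P : Subgroup G) μ.hom χ : ℤ) : ℂ) *
        (χ : G → ℂ) u = (trivIrr G : G → ℂ) u + (χ₁ : G → ℂ) u - (θ' μ : G → ℂ) u := by
      rw [← T_sum w (trivIrr G) χ₁ (θ' μ) hχ₁ hw1 hw11 hz (fun χ => (χ : G → ℂ) u)]
      refine Finset.sum_congr rfl fun χ _ => ?_
      rw [hshape μ χ]
    rw [h2, trivIrr_apply, hau] at h1
    linear_combination h1
  set F : Cfsg.IrrCharacter G → ℂ := fun χ => (χ : G → ℂ) u * (χ : G → ℂ) u / (χ : G → ℂ) 1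
    with hF
  have hFμ : ∀ μ : excDual (P : Subgroup G),
      ∑ χ : Cfsg.IrrCharacter G, ((excN (P : Subgroup G) μ.hom χ : ℤ) : ℂ) * F χ =
        1 + (au : ℂ) ^ 2 / 8 - (1 + (au : ℂ)) ^ 2 / 9 := by
    intro μ
    have h2 : ∑ χ : Cfsg.IrrCharacter G, ((excN (P : Subgroup G) μ.hom χ : ℤ) : ℂ) * F χ =
        F (trivIrr G) + F χ₁ - F (θ' μ) := by
      rw [← T_sum w (trivIrr G) χ₁ (θ' μ) hχ₁ hw1 hw11 hz F]
      refine Finset.sum_congr rfl fun χ _ => ?_
      rw [hshape μ χ]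
    rw [h2, hF]
    simp only [trivIrr_apply, hχ₁1, hθ1, hθu, hau]
    ring
  set cA : ℕ := Nat.card {x : G // IsConj u x} with hcA
  set K : ℂ := (cA : ℂ) * (cA : ℂ) / (Nat.card G : ℂ) with hK
  have h840 : ∀ y : (P : Subgroup G), y ≠ 1 →
      (7 : ℂ) = K * ∑ χ : Cfsg.IrrCharacter G, F χ * conj ((χ : G → ℂ) y) := by
    intro y hy
    have h1 := Cfsg.Agent.S0840.result u u (y : G)
    rw [finsum_eq_sum_of_fintype] at h1
    have hy1 : (y : G) ≠ 1 := fun h => hy (Subtype.ext h)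
    rw [D.count_pairs u huN hu2 (y : G) y.2 hy1] at h1
    rw [hK]
    have h2 : ∑ χ : Cfsg.IrrCharacter G, (χ : G → ℂ) u * (χ : G → ℂ) u * conj ((χ : G → ℂ) y) /
        (χ : G → ℂ) 1 = ∑ χ : Cfsg.IrrCharacter G, F χ * conj ((χ : G → ℂ) y) := by
      refine Finset.sum_congr rfl fun χ _ => ?_
      rw [hF]
      ring
    rw [← h2, ← h1]
    norm_num
  have hsumL : ∑ y : (P : Subgroup G), (if y = 1 then (0 : ℂ) else 7) = 42 := by
    have h1 : ∀ y : (P : Subgroup G), (if y = 1 then (0 : ℂ) else 7) =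
        7 - (if y = 1 then 7 else 0) := by
      intro y
      by_cases hy : y = 1
      · rw [if_pos hy, if_pos hy]; ring
      · rw [if_neg hy, if_neg hy]; ring
    simp only [h1, Finset.sum_sub_distrib, Finset.sum_const, Finset.sum_ite_eq', Finset.mem_univ,
      if_true, Finset.card_univ]
    rw [← Nat.card_eq_fintype_card, hP]
    norm_num
  have hsumR : ∑ y : (P : Subgroup G), (if y = 1 then (0 : ℂ) else 7) =
      K * (6 * (1 + (au : ℂ) ^ 2 / 8 - (1 + (au : ℂ)) ^ 2 / 9)) := by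
    have h1 : ∀ y : (P : Subgroup G), (if y = 1 then (0 : ℂ) else 7) =
        K * ∑ χ : Cfsg.IrrCharacter G, F χ *
          (if y = 1 then 0 else conj ((χ : G → ℂ) y)) := by
      intro y
      by_cases hy : y = 1
      · simp [hy]
      · simp only [if_neg hy]
        exact h840 y hy
    simp only [h1]
    rw [← Finset.mul_sum, Finset.sum_comm]
    congr 1
    have h2 : ∀ χ : Cfsg.IrrCharacter G, ∑ y : (P : Subgroup G), F χ *
        (if y = 1 then 0 else conj ((χ : G → ℂ) y)) =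
        ∑ μ : excDual (P : Subgroup G), ((excN (P : Subgroup G) μ.hom χ : ℤ) : ℂ) * F χ := by
      intro χ
      rw [← Finset.mul_sum, sum_punctured (P : Subgroup G) hP χ, Finset.mul_sum]
      refine Finset.sum_congr rfl fun μ _ => ?_
      ring
    simp only [h2]
    rw [Finset.sum_comm]
    simp only [hFμ, Finset.sum_const, Finset.card_univ, hcardΩ]
    norm_num
  rw [hsumL] at hsumR
  have hGC : (Nat.card G : ℂ) = 4032 := by rw [hG]; norm_num
  rw [hK, hGC] at hsumR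
  have hkey : ((cA : ℂ) * ((au : ℂ) - 8)) * ((cA : ℂ) * ((au : ℂ) - 8)) = 2032128 := by
    have := hsumR
    field_simp at this
    linear_combination (-1 / 6 : ℂ) * this
  have hkeyZ : ((cA : ℤ) * (au - 8)) * ((cA : ℤ) * (au - 8)) = 2032128 := by
    exact_mod_cast hkey
  apply no_sq ((cA : ℤ) * (au - 8)).natAbs
  have := congrArg Int.natAbs hkeyZ
  rw [Int.natAbs_mul] at this
  exact this

end Cfsg.Agent.Lib.Helper1.O4032
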