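import Mathlib
import Cfsg.Agent.Lib.Helper1.Ord4032.Basic

set_option autoImplicit false
set_option linter.unusedVariables false
set_option linter.unusedSectionVars false
set_option linter.style.haveILetI false

namespace Cfsg.Agent.Lib.Helper1.O4032

open Cfsg.Agent.Lib.helper8 Cfsg.Agent.Lib.helper23

variable {G : Type*} [Group G] [Finite G] [IsSimpleGroup G]

theorem fixedBy_pow_le {X : Type*} [MulAction G X] [Finite X] (s : G) (k : ℕ) :
    Nat.card (MulAction.fixedBy X s) ≤ Nat.card (MulAction.fixedBy X (s ^ k)) := by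
  apply Nat.card_le_card_of_injective (fun a => (⟨a.1, ?_⟩ : MulAction.fixedBy X (s ^ k)))
  · intro a b h
    have h' := congrArg Subtype.val h
    exact Subtype.ext h'
  · have ha := a.2
    rw [MulAction.mem_fixedBy] at ha ⊢
    induction k with
    | zero => simp
    | succ n ih => rw [pow_succ, mul_smul, ha, ih]

theorem smul_coe (T N : Subgroup G) (m : T) (a : G ⧸ N) : m • a = (m : G) • a := rfl

theorem invol_fix36 (hG : Nat.card G = 4032) [Fact (Nat.Prime 7)] (P : Sylow 7 G)
    (h36 : Nat.card (Sylow 7 G) = 36) (t : G)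
    (htC : t ∈ Subgroup.centralizer ((P : Subgroup G) : Set G)) (ht : orderOf t = 2) :
    Nat.card (MulAction.fixedBy (G ⧸ Subgroup.normalizer ((P : Subgroup G) : Set G)) t) = 8 := by
  obtain ⟨hP, hN, hX, -⟩ := setup hG P
  have h1 : Nat.card (MulAction.fixedBy (G ⧸ Subgroup.normalizer ((P : Subgroup G) : Set G)) t)
      % 7 = 1 := og2_card_fixedBy_modEq_one 7 P hP t htC
  have h2 := h8_simple_involution_fixed (X := G ⧸ Subgroup.normalizer ((P : Subgroup G) : Set G))
    (nc hG) t (by rw [← ht]; exact pow_orderOf_eq_one _)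
  rw [hX, h36] at h2
  have h3 : Nat.card (MulAction.fixedBy (G ⧸ Subgroup.normalizer ((P : Subgroup G) : Set G)) t) ≤
      36 := by
    have := Finite.card_subtype_le
      (fun a : G ⧸ Subgroup.normalizer ((P : Subgroup G) : Set G) => a ∈ MulAction.fixedBy _ t)
    rw [hX, h36] at this
    exact this
  have h4 : Nat.card (MulAction.fixedBy (G ⧸ Subgroup.normalizer ((P : Subgroup G) : Set G)) t) ≠
      36 := by
    intro h
    have h5 : Nat.card (MulAction.fixedBy (G ⧸ Subgroup.normalizer ((P : Subgroup G) : Set G)) t) =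
        Nat.card (G ⧸ Subgroup.normalizer ((P : Subgroup G) : Set G)) := by rw [h, hX, h36]
    have := og2_eq_one_of_card_fixedBy _ (N_ne_top hG P) t h5
    rw [this] at ht
    simp at ht
  generalize Nat.card (MulAction.fixedBy (G ⧸ Subgroup.normalizer ((P : Subgroup G) : Set G)) t) = f
    at h1 h2 h3 h4
  interval_cases f <;> omega

theorem exists_invol_pow (s : G) (k : ℕ) (hk : 1 ≤ k) (hs : orderOf s = 2 ^ k) :
    orderOf (s ^ (2 ^ (k - 1))) = 2 := by
  have h1 : 2 ^ k = 2 ^ (k - 1) * 2 := by
    rw [← pow_succ]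
    congr 1
    omega
  have h2 : orderOf (s ^ (2 ^ (k - 1))) = orderOf s / 2 ^ (k - 1) :=
    orderOf_pow_of_dvd (by positivity) (by rw [hs]; exact pow_dvd_pow 2 (by omega))
  rw [h2, hs, h1, Nat.mul_div_cancel_left _ (by positivity)]

theorem case36 (hG : Nat.card G = 4032) [Fact (Nat.Prime 7)] (h36 : Nat.card (Sylow 7 G) = 36) :
    False := by
  classical
  have : Fact (Nat.Prime 2) := ⟨Nat.prime_two⟩
  obtain ⟨P⟩ : Nonempty (Sylow 7 G) := inferInstance
  obtain ⟨hP, hN, hX, r, hr, hr1, hC⟩ := setup hG P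
  rw [h36] at hN
  have hN112 : Nat.card (Subgroup.normalizer ((P : Subgroup G) : Set G)) = 112 := by omega
  rw [hN112] at hC
  have hr6 : r ≤ 6 := Nat.le_of_dvd (by norm_num) hr
  have hC56 : Nat.card (Subgroup.centralizer ((P : Subgroup G) : Set G)) = 56 := by
    interval_cases r <;> omega
  obtain ⟨T', hT'⟩ := Sylow.exists_subgroup_card_pow_prime 2
    (G := Subgroup.centralizer ((P : Subgroup G) : Set G)) (n := 3) (by rw [hC56]; norm_num)
  set T : Subgroup G := T'.map (Subgroup.centralizer ((P : Subgroup G) : Set G)).subtype with hTdef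
  have hT8 : Nat.card T = 8 := by
    rw [hTdef, Subgroup.card_map_of_injective (Subgroup.subtype_injective _), hT']
    norm_num
  have hTC : T ≤ Subgroup.centralizer ((P : Subgroup G) : Set G) := by
    rw [hTdef]
    exact Subgroup.map_subtype_le _
  have hTN : T ≤ Subgroup.normalizer ((P : Subgroup G) : Set G) :=
    hTC.trans (Subgroup.centralizer_le_normalizer _)
  have hTp : IsPGroup 2 T := IsPGroup.of_card (n := 3) (by rw [hT8]; norm_num)
  set N := Subgroup.normalizer ((P : Subgroup G) : Set G) with hNdef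
  have hfp := hTp.card_modEq_card_fixedPoints (G ⧸ N)
  rw [hX, h36] at hfp
  have hbase : ((1 : G) : G ⧸ N) ∈ MulAction.fixedPoints T (G ⧸ N) := by
    rw [MulAction.mem_fixedPoints]
    intro m
    rw [smul_coe]
    exact og2_base_fixed N (m : G) (hTN m.2)
  have hfp2 : 2 ≤ Nat.card (MulAction.fixedPoints T (G ⧸ N)) := by
    have h1 : 0 < Nat.card (MulAction.fixedPoints T (G ⧸ N)) :=
      Nat.card_pos_iff.mpr ⟨⟨⟨_, hbase⟩⟩, inferInstance⟩
    have h2 : Nat.card (MulAction.fixedPoints T (G ⧸ N)) % 2 = 0 := by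
      have := hfp
      unfold Nat.ModEq at this
      omega
    omega
  have hfix : ∀ s : T, s ≠ 1 → Nat.card (MulAction.fixedBy (G ⧸ N) (s : G)) = 8 := by
    intro s hs1
    have hsG1 : (s : G) ≠ 1 := fun h => hs1 (Subtype.ext h)
    obtain ⟨k, hk⟩ := (IsPGroup.iff_orderOf.mp hTp) s
    have hkG : orderOf (s : G) = 2 ^ k := by rw [Subgroup.orderOf_coe]; exact hk
    have hk1 : 1 ≤ k := by
      rcases Nat.eq_zero_or_pos k with h | h
      · rw [h, pow_zero] at hkG
        exact absurd (orderOf_eq_one_iff.mp hkG) hsG1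
      · exact h
    have ht2 := exists_invol_pow (s : G) k hk1 hkG
    have htC : (s : G) ^ (2 ^ (k - 1)) ∈ Subgroup.centralizer ((P : Subgroup G) : Set G) :=
      Subgroup.pow_mem _ (hTC s.2) _
    have h8 := invol_fix36 hG P h36 _ htC ht2
    have hle := fixedBy_pow_le (X := G ⧸ N) (s : G) (2 ^ (k - 1))
    rw [h8] at hle
    have hmod : Nat.card (MulAction.fixedBy (G ⧸ N) (s : G)) % 7 = 1 :=
      og2_card_fixedBy_modEq_one 7 P hP (s : G) (hTC s.2)
    have hge : Nat.card (MulAction.fixedPoints T (G ⧸ N)) ≤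
        Nat.card (MulAction.fixedBy (G ⧸ N) (s : G)) := by
      apply Nat.card_le_card_of_injective
        (fun a => (⟨a.1, ?_⟩ : MulAction.fixedBy (G ⧸ N) (s : G)))
      · intro a b h
        have h' := congrArg Subtype.val h
        exact Subtype.ext h'
      · have ha := a.2
        rw [MulAction.mem_fixedPoints] at ha
        rw [MulAction.mem_fixedBy]
        have := ha s
        rwa [smul_coe] at this
    generalize Nat.card (MulAction.fixedBy (G ⧸ N) (s : G)) = f at hle hmod hge
    interval_cases f <;> omega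
  haveI : Fintype T := Fintype.ofFinite _
  haveI : Fintype (G ⧸ N) := Fintype.ofFinite _
  haveI : ∀ g : T, Fintype (MulAction.fixedBy (G ⧸ N) g) := fun g => Fintype.ofFinite _
  haveI : Fintype (Quotient (MulAction.orbitRel T (G ⧸ N))) := Fintype.ofFinite _
  have hB := MulAction.sum_card_fixedBy_eq_card_orbits_mul_card_group T (G ⧸ N)
  have hcardT : Fintype.card T = 8 := by rw [← Nat.card_eq_fintype_card]; exact hT8
  have hsum : ∑ g : T, Fintype.card (MulAction.fixedBy (G ⧸ N) g) =
      ∑ g : T, (8 + if g = 1 then 28 else 0) := by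
    apply Finset.sum_congr rfl
    intro g _
    have e : MulAction.fixedBy (G ⧸ N) g = MulAction.fixedBy (G ⧸ N) (g : G) := by
      ext a
      simp only [MulAction.mem_fixedBy, smul_coe]
    by_cases hg : g = 1
    · rw [if_pos hg, hg]
      rw [← Nat.card_eq_fintype_card]
      have : MulAction.fixedBy (G ⧸ N) (1 : T) = Set.univ := by
        ext a
        simp
      rw [this, Nat.card_congr (Equiv.Set.univ _), hX, h36]
    · rw [if_neg hg, add_zero, ← Nat.card_eq_fintype_card, e]
      exact hfix g hg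
  rw [hsum, Finset.sum_add_distrib, Finset.sum_const, Finset.sum_ite_eq', if_pos (Finset.mem_univ _),
    Finset.card_univ, hcardT] at hB
  simp only [smul_eq_mul] at hB
  omega

end Cfsg.Agent.Lib.Helper1.O4032
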