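import Mathlib
import Cfsg.Agent.Lib.Helper1.Ord4032.Basic
import Cfsg.Agent.Lib.Helper24.BaerSuzuki

set_option autoImplicit false
set_option linter.unusedVariables false
set_option linter.unusedSectionVars false
set_option linter.style.haveILetI false

namespace Cfsg.Agent.Lib.Helper1.O4032

open Cfsg.Agent.Lib.helper8 Cfsg.Agent.Lib.helper23

theorem isPGroup_two_of_invols {H : Type*} [Group H] (s t : H) (hs : s * s = 1) (ht : t * t = 1)
    (k : ℕ) (hst : (s * t) ^ (2 ^ k) = 1) :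
    IsPGroup 2 ↥(Subgroup.zpowers s ⊔ Subgroup.zpowers t) := by
  have hpz : ∀ (r : H) (k : ℕ), r ^ (2 ^ k) = 1 → IsPGroup 2 ↥(Subgroup.zpowers r) := by
    intro r k hr g
    obtain ⟨i, hi⟩ := Subgroup.mem_zpowers_iff.mp g.2
    refine ⟨k, ?_⟩
    apply Subtype.ext
    rw [Subgroup.coe_pow, ← hi, Subgroup.coe_one, ← zpow_natCast, ← zpow_mul, mul_comm, zpow_mul,
      zpow_natCast, hr, one_zpow]
  have h1 : IsPGroup 2 ↥(Subgroup.zpowers (s * t)) := hpz (s * t) k hst
  have h2 : IsPGroup 2 ↥(Subgroup.zpowers s) := hpz s 1 (by rw [pow_one, pow_two]; exact hs)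
  have hsinv : s⁻¹ = s := inv_eq_of_mul_eq_one_left hs
  have htinv : t⁻¹ = t := inv_eq_of_mul_eq_one_left ht
  have hnorm : Subgroup.zpowers s ≤
      Subgroup.normalizer ((Subgroup.zpowers (s * t) : Subgroup H) : Set H) := by
    rw [Subgroup.zpowers_le]
    have hconj : ∀ q ∈ Subgroup.zpowers (s * t), s * q * s⁻¹ ∈ Subgroup.zpowers (s * t) := by
      intro q hq
      obtain ⟨i, rfl⟩ := Subgroup.mem_zpowers_iff.mp hq
      rw [← conj_zpow]
      apply Subgroup.zpow_mem
      have e : s * (s * t) * s⁻¹ = (s * t)⁻¹ := by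
        rw [mul_inv_rev, hsinv, htinv, ← mul_assoc, hs, one_mul]
      rw [e]
      exact Subgroup.inv_mem _ (Subgroup.mem_zpowers _)
    rw [Subgroup.mem_normalizer_iff]
    intro q
    constructor
    · exact hconj q
    · intro hq
      have := hconj _ hq
      rw [hsinv] at this
      have e : s * (s * q * s) * s = q := by
        calc s * (s * q * s) * s = (s * s) * q * (s * s) := by group
          _ = q := by rw [hs, one_mul, mul_one]
      rwa [e] at this
  have h3 : IsPGroup 2 ↥(Subgroup.zpowers s ⊔ Subgroup.zpowers (s * t)) :=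
    IsPGroup.to_sup_of_normal_right' h2 h1 hnorm
  refine h3.to_le (sup_le le_sup_left ?_)
  rw [Subgroup.zpowers_le]
  have h4 : s⁻¹ * (s * t) ∈ Subgroup.zpowers s ⊔ Subgroup.zpowers (s * t) :=
    Subgroup.mul_mem _ (Subgroup.inv_mem _ (Subgroup.mem_sup_left (Subgroup.mem_zpowers s)))
      (Subgroup.mem_sup_right (Subgroup.mem_zpowers _))
  rwa [inv_mul_cancel_left] at h4

variable {G : Type*} [Group G] [Finite G] [IsSimpleGroup G]

theorem baer_contra (hG : Nat.card G = 4032)
    (h : ∀ s t : G, orderOf s = 2 → orderOf t = 2 → ∃ k : ℕ, (s * t) ^ (2 ^ k) = 1) : False := by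
  haveI : Fact (Nat.Prime 2) := ⟨Nat.prime_two⟩
  have h2 : 2 ∣ Nat.card G := by rw [hG]; norm_num
  obtain ⟨s, hs⟩ := exists_prime_orderOf_dvd_card' 2 h2
  have hss : s * s = 1 := by rw [← pow_two, ← hs]; exact pow_orderOf_eq_one s
  have hX : IsPGroup 2 (Subgroup.zpowers s) :=
    IsPGroup.of_card (n := 1) (by rw [Nat.card_zpowers, hs, pow_one])
  have hall : ∀ g : G, IsPGroup 2 ↥(Subgroup.zpowers s ⊔
      (Subgroup.zpowers s).map (MulAut.conj g).toMonoidHom) := by
    intro g
    have e : (Subgroup.zpowers s).map (MulAut.conj g).toMonoidHom =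
        Subgroup.zpowers (g * s * g⁻¹) := by
      rw [MonoidHom.map_zpowers]
      rfl
    rw [e]
    have ht2 : orderOf (g * s * g⁻¹) = 2 := by
      have := h8_orderOf_conj g⁻¹ s
      rw [inv_inv] at this
      rw [this, hs]
    have htt : (g * s * g⁻¹) * (g * s * g⁻¹) = 1 := by
      rw [← pow_two, ← ht2]; exact pow_orderOf_eq_one _
    obtain ⟨k, hk⟩ := h s (g * s * g⁻¹) hs ht2
    exact isPGroup_two_of_invols s _ hss htt k hk
  obtain ⟨N, hN, hN2, hsN⟩ := Cfsg.Agent.Lib.Helper24.baer_suzuki (Subgroup.zpowers s) hX hall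
  rcases hN.eq_bot_or_eq_top with h0 | h0
  · rw [h0] at hsN
    have : s = 1 := by
      have := hsN (Subgroup.mem_zpowers s)
      rwa [Subgroup.mem_bot] at this
    rw [this] at hs
    simp at hs
  · rw [h0] at hN2
    obtain ⟨n, hn⟩ := (IsPGroup.iff_card (p := 2)).mp hN2
    rw [Subgroup.card_top, hG] at hn
    have h7 : 7 ∣ 2 ^ n := by rw [← hn]; norm_num
    have := (Nat.Prime.dvd_of_dvd_pow (by norm_num : Nat.Prime 7) h7)
    omega

theorem invol_prod_pow (hG : Nat.card G = 4032)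
    (hno : ∀ s z : G, orderOf s = 2 → (orderOf z = 3 ∨ orderOf z = 7) → s * z * s⁻¹ ≠ z⁻¹)
    (s t : G) (hs : orderOf s = 2) (ht : orderOf t = 2) : ∃ k : ℕ, (s * t) ^ (2 ^ k) = 1 := by
  have hss : s * s = 1 := by rw [← pow_two, ← hs]; exact pow_orderOf_eq_one s
  have htt : t * t = 1 := by rw [← pow_two, ← ht]; exact pow_orderOf_eq_one t
  have hsinv : s⁻¹ = s := inv_eq_of_mul_eq_one_left hss
  have htinv : t⁻¹ = t := inv_eq_of_mul_eq_one_left htt
  have hinv : s * (s * t) * s⁻¹ = (s * t)⁻¹ := by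
    rw [mul_inv_rev, hsinv, htinv, ← mul_assoc, hss, one_mul]
  have hinvpow : ∀ j : ℕ, s * (s * t) ^ j * s⁻¹ = ((s * t) ^ j)⁻¹ := by
    intro j
    rw [← conj_pow, hinv, inv_pow]
  have hm : orderOf (s * t) ∣ 4032 := by rw [← hG]; exact orderOf_dvd_natCard _
  have hq : ∀ q : ℕ, (q = 3 ∨ q = 7) → ¬ q ∣ orderOf (s * t) := by
    intro q hq hdvd
    have hpos : 0 < orderOf (s * t) := orderOf_pos _
    have hz : orderOf ((s * t) ^ (orderOf (s * t) / q)) = q := by
      rw [orderOf_pow_of_dvd (by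
        have : 0 < orderOf (s * t) / q := Nat.div_pos (Nat.le_of_dvd hpos hdvd)
          (by rcases hq with h | h <;> omega)
        omega) (Nat.div_dvd_of_dvd hdvd)]
      exact Nat.div_div_self hdvd hpos.ne'
    refine hno s ((s * t) ^ (orderOf (s * t) / q)) hs ?_ (hinvpow (orderOf (s * t) / q))
    rcases hq with h | h
    · left; rw [hz, h]
    · right; rw [hz, h]
  have h3 := hq 3 (Or.inl rfl)
  have h7 := hq 7 (Or.inr rfl)
  have hcop : Nat.Coprime (orderOf (s * t)) 63 := by
    have e : (63 : ℕ) = 3 ^ 2 * 7 := by norm_num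
    rw [e]
    apply Nat.Coprime.mul_right
    · apply Nat.Coprime.pow_right
      exact ((Nat.Prime.coprime_iff_not_dvd (by norm_num : Nat.Prime 3)).mpr h3).symm
    · exact ((Nat.Prime.coprime_iff_not_dvd (by norm_num : Nat.Prime 7)).mpr h7).symm
  have h64 : orderOf (s * t) ∣ 2 ^ 6 := by
    have e : (4032 : ℕ) = 2 ^ 6 * 63 := by norm_num
    rw [e] at hm
    exact hcop.dvd_of_dvd_mul_right hm
  exact ⟨6, orderOf_dvd_iff_pow_eq_one.mp h64⟩

theorem no_index8 (K : Subgroup G) (hK8 : K.index = 8) (x y : G) (hx : orderOf x = 7)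
    (hy : orderOf y = 3) (hxy : Commute x y) (hxK : x ∈ K) (hyK : y ∈ K) : False := by
  haveI : Fact (Nat.Prime 7) := ⟨by norm_num⟩
  haveI : Fact (Nat.Prime 3) := ⟨by norm_num⟩
  have hKtop : K ≠ ⊤ := by
    intro h
    rw [h, Subgroup.index_top] at hK8
    omega
  have hX : Nat.card (G ⧸ K) = 8 := by rw [← Subgroup.index_eq_card, hK8]
  have hpx : IsPGroup 7 (Subgroup.zpowers x) :=
    IsPGroup.of_card (n := 1) (by rw [Nat.card_zpowers, hx, pow_one])
  have hpy : IsPGroup 3 (Subgroup.zpowers y) :=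
    IsPGroup.of_card (n := 1) (by rw [Nat.card_zpowers, hy, pow_one])
  have hone : Nat.card (MulAction.fixedBy (G ⧸ K) (1 : G)) = 8 := by
    have : MulAction.fixedBy (G ⧸ K) (1 : G) = Set.univ := by
      ext a
      simp
    rw [this, Nat.card_congr (Equiv.Set.univ _), hX]
  have h1 := og2_card_fixedBy_modEq_of_commute (X := G ⧸ K) (p := 7) (1 : G) x
    (Commute.one_left x) hpx
  rw [hone] at h1
  have hbase : ∀ g : G, g ∈ K → g • ((1 : G) : G ⧸ K) = ((1 : G) : G ⧸ K) :=
    fun g hg => og2_base_fixed K g hg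
  have hfx : Nat.card {a : G ⧸ K // (1 : G) • a = a ∧ x • a = a} = 1 := by
    have hle : Nat.card {a : G ⧸ K // (1 : G) • a = a ∧ x • a = a} ≤ 8 := by
      have := Finite.card_subtype_le (fun a : G ⧸ K => (1 : G) • a = a ∧ x • a = a)
      rwa [hX] at this
    have hne : Nat.card {a : G ⧸ K // (1 : G) • a = a ∧ x • a = a} ≠ 8 := by
      intro h8
      have hall : ∀ a : G ⧸ K, x • a = a := by
        have hinj : Function.Injective
            (fun a : {a : G ⧸ K // (1 : G) • a = a ∧ x • a = a} => (a : G ⧸ K)) :=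
          Subtype.val_injective
        have hbij := hinj.bijective_of_nat_card_le (by rw [h8, hX])
        intro a
        obtain ⟨b, hb⟩ := hbij.2 a
        rw [← hb]
        exact b.2.2
      have := og2_eq_one_of_fixes_all K hKtop x hall
      rw [this] at hx
      simp at hx
    have hmod : 8 % 7 = Nat.card {a : G ⧸ K // (1 : G) • a = a ∧ x • a = a} % 7 := h1
    generalize Nat.card {a : G ⧸ K // (1 : G) • a = a ∧ x • a = a} = f at hle hne hmod
    interval_cases f <;> omega
  have hfxy : Nat.card {a : G ⧸ K // y • a = a ∧ x • a = a} = 1 := by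
    apply le_antisymm
    · rw [← hfx]
      apply Nat.card_le_card_of_injective
        (fun a => (⟨a.1, by simp, a.2.2⟩ : {a : G ⧸ K // (1 : G) • a = a ∧ x • a = a}))
      intro a b h
      have h' := congrArg Subtype.val h
      exact Subtype.ext h'
    · exact Nat.card_pos_iff.mpr ⟨⟨⟨_, hbase y hyK, hbase x hxK⟩⟩, inferInstance⟩
  have h2 := og2_card_fixedBy_modEq_of_commute (X := G ⧸ K) (p := 7) y x hxy.symm hpx
  rw [hfxy] at h2
  have h3 := og2_card_fixedBy_modEq_of_commute (X := G ⧸ K) (p := 3) (1 : G) y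
    (Commute.one_left y) hpy
  rw [hone] at h3
  have e3 : Nat.card {a : G ⧸ K // (1 : G) • a = a ∧ y • a = a} =
      Nat.card (MulAction.fixedBy (G ⧸ K) y) := by
    apply Nat.card_congr
    exact ⟨fun a => ⟨a.1, a.2.2⟩, fun a => ⟨a.1, by simp, a.2⟩, fun a => rfl, fun a => rfl⟩
  rw [e3] at h3
  have hle : Nat.card (MulAction.fixedBy (G ⧸ K) y) ≤ 8 := by
    have := Finite.card_subtype_le (fun a : G ⧸ K => a ∈ MulAction.fixedBy (G ⧸ K) y)
    rwa [hX] at this
  have hne : Nat.card (MulAction.fixedBy (G ⧸ K) y) ≠ 8 := by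
    intro h8
    have := og2_eq_one_of_card_fixedBy K hKtop y (by rw [h8, hX])
    rw [this] at hy
    simp at hy
  have h2' : Nat.card (MulAction.fixedBy (G ⧸ K) y) % 7 = 1 % 7 := h2
  have h3' : 8 % 3 = Nat.card (MulAction.fixedBy (G ⧸ K) y) % 3 := h3
  generalize Nat.card (MulAction.fixedBy (G ⧸ K) y) = f at hle hne h2' h3'
  interval_cases f <;> omega

end Cfsg.Agent.Lib.Helper1.O4032
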