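import Mathlib
import Cfsg.Agent.Lib.Helper1.Ord4032.Case64a

set_option autoImplicit false
set_option linter.unusedVariables false
set_option linter.unusedSectionVars false
set_option linter.style.haveILetI false

namespace Cfsg.Agent.Lib.Helper1.O4032

open Cfsg.Agent.Lib.helper8 Cfsg.Agent.Lib.helper23

variable {G : Type*} [Group G] [Finite G] [IsSimpleGroup G]

structure D64 (G : Type*) [Group G] [Fact (Nat.Prime 7)] where
  P : Sylow 7 G
  y : G
  R : Subgroup G
  hP : Nat.card (P : Subgroup G) = 7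
  hN : Nat.card (Subgroup.normalizer ((P : Subgroup G) : Set G)) = 63
  hC : Nat.card (Subgroup.centralizer ((P : Subgroup G) : Set G)) = 21
  hy : orderOf y = 3
  hyC : y ∈ Subgroup.centralizer ((P : Subgroup G) : Set G)
  hR : Nat.card R = 9
  hRN : R ≤ Subgroup.normalizer ((P : Subgroup G) : Set G)
  hyR : y ∈ R

theorem exists_D64 (hG : Nat.card G = 4032) [Fact (Nat.Prime 7)]
    (h64 : Nat.card (Sylow 7 G) = 64) : Nonempty (D64 G) := by
  haveI : Fact (Nat.Prime 3) := ⟨by norm_num⟩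
  obtain ⟨P⟩ : Nonempty (Sylow 7 G) := inferInstance
  obtain ⟨hP, hN, hX, r, hr, hr1, hC⟩ := setup hG P
  rw [h64] at hN
  have hN63 : Nat.card (Subgroup.normalizer ((P : Subgroup G) : Set G)) = 63 := by omega
  have hr6 : r ≤ 6 := Nat.le_of_dvd (by norm_num) hr
  have hC21 : Nat.card (Subgroup.centralizer ((P : Subgroup G) : Set G)) = 21 := by
    rw [hN63] at hC
    interval_cases r <;> omega
  obtain ⟨y', hy'⟩ := exists_prime_orderOf_dvd_card'
    (G := Subgroup.centralizer ((P : Subgroup G) : Set G)) 3 (by rw [hC21]; norm_num)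
  have hy3 : orderOf (y' : G) = 3 := by rw [Subgroup.orderOf_coe]; exact hy'
  have hyN : (y' : G) ∈ Subgroup.normalizer ((P : Subgroup G) : Set G) :=
    Subgroup.centralizer_le_normalizer _ y'.2
  set N := Subgroup.normalizer ((P : Subgroup G) : Set G) with hNdef
  have hz3 : IsPGroup 3 (Subgroup.zpowers (⟨(y' : G), hyN⟩ : N)) := by
    apply IsPGroup.of_card (n := 1)
    rw [Nat.card_zpowers, pow_one, ← hy3, ← Subgroup.orderOf_coe]
  obtain ⟨Q, hQ⟩ := hz3.exists_le_sylow
  have hQ9 : Nat.card (Q : Subgroup N) = 3 ^ 2 :=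
    h8_sylow_card 3 2 7 (by rw [hN63]; norm_num) (by norm_num) Q
  refine ⟨⟨P, (y' : G), (Q : Subgroup N).map N.subtype, hP, hN63, hC21, hy3, y'.2, ?_, ?_, ?_⟩⟩
  · rw [Subgroup.card_map_of_injective (Subgroup.subtype_injective _), hQ9]
    norm_num
  · exact Subgroup.map_subtype_le _
  · exact ⟨⟨(y' : G), hyN⟩, hQ (Subgroup.mem_zpowers _), rfl⟩

namespace D64

variable [Fact (Nat.Prime 7)] (D : D64 G)

theorem P_le_N : (D.P : Subgroup G) ≤ Subgroup.normalizer ((D.P : Subgroup G) : Set G) :=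
  Subgroup.le_normalizer

theorem y_ne_one : D.y ≠ 1 := by
  intro h
  have := D.hy
  rw [h] at this
  simp at this

theorem R_comm : ∀ a ∈ D.R, ∀ b ∈ D.R, a * b = b * a := by
  haveI : Fact (Nat.Prime 3) := ⟨by norm_num⟩
  exact h8_comm_of_card_prime_sq 3 D.R (by rw [D.hR]; norm_num)

theorem sup_eq_N : (D.P : Subgroup G) ⊔ D.R = Subgroup.normalizer ((D.P : Subgroup G) : Set G) := by
  apply Subgroup.eq_of_le_of_card_ge (sup_le D.P_le_N D.hRN)
  rw [D.hN]
  have h7 : 7 ∣ Nat.card ((D.P : Subgroup G) ⊔ D.R : Subgroup G) := by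
    have := Subgroup.card_dvd_of_le (le_sup_left : (D.P : Subgroup G) ≤ (D.P : Subgroup G) ⊔ D.R)
    rwa [D.hP] at this
  have h9 : 9 ∣ Nat.card ((D.P : Subgroup G) ⊔ D.R : Subgroup G) := by
    have := Subgroup.card_dvd_of_le (le_sup_right : D.R ≤ (D.P : Subgroup G) ⊔ D.R)
    rwa [D.hR] at this
  have h63 : 7 * 9 ∣ Nat.card ((D.P : Subgroup G) ⊔ D.R : Subgroup G) :=
    Nat.Coprime.mul_dvd_of_dvd_of_dvd (by norm_num) h7 h9
  exact Nat.le_of_dvd Nat.card_pos h63

theorem N_le_K : Subgroup.normalizer ((D.P : Subgroup G) : Set G) ≤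
    Subgroup.centralizer ({D.y} : Set G) := by
  rw [← D.sup_eq_N]
  apply sup_le
  · intro u hu
    rw [Subgroup.mem_centralizer_singleton_iff]
    exact Subgroup.mem_centralizer_iff.mp D.hyC u hu
  · intro a ha
    rw [Subgroup.mem_centralizer_singleton_iff]
    exact D.R_comm a ha D.y D.hyR

theorem exists_x : ∃ x ∈ (D.P : Subgroup G), orderOf x = 7 := by
  obtain ⟨x', hx'⟩ := exists_prime_orderOf_dvd_card' (G := (D.P : Subgroup G)) 7
    (by rw [D.hP])
  exact ⟨(x' : G), x'.2, by rw [Subgroup.orderOf_coe]; exact hx'⟩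

theorem K_eq_N (hG : Nat.card G = 4032) :
    Subgroup.centralizer ({D.y} : Set G) = Subgroup.normalizer ((D.P : Subgroup G) : Set G) := by
  set K := Subgroup.centralizer ({D.y} : Set G) with hKdef
  set N := Subgroup.normalizer ((D.P : Subgroup G) : Set G) with hNdef
  have hNK : N ≤ K := D.N_le_K
  have hPK : (D.P : Subgroup G) ≤ K := D.P_le_N.trans hNK
  have h1 := card_sylow_modEq_one 7 K
  have h2 : Nat.card (Sylow 7 K) = (Subgroup.normalizer
      (((D.P.subtype hPK : Sylow 7 K) : Subgroup K) : Set K)).index :=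
    Sylow.card_eq_index_normalizer (D.P.subtype hPK)
  have e2 : ((D.P.subtype hPK : Sylow 7 K) : Subgroup K) = (D.P : Subgroup G).subgroupOf K :=
    Sylow.coe_subtype _ _
  rw [e2, ← Subgroup.subgroupOf_normalizer_eq hPK] at h2
  have h3 : N.relIndex K = Nat.card (Sylow 7 K) := by rw [h2]; rfl
  have h4 := h8_card_mul_relIndex hNK
  have h5 := K.card_mul_index
  rw [hG] at h5
  rw [D.hN] at h4
  have h6 : N.relIndex K * K.index = 64 := by
    have : 63 * (N.relIndex K * K.index) = 63 * 64 := by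
      rw [← mul_assoc, h4, h5]
    omega
  have h7 : N.relIndex K % 7 = 1 := by
    rw [h3]
    exact h1
  have h8 : N.relIndex K ∣ 64 := ⟨_, h6.symm⟩
  have h9 : N.relIndex K ≤ 64 := Nat.le_of_dvd (by norm_num) h8
  have h10 : N.relIndex K = 1 ∨ N.relIndex K = 8 ∨ N.relIndex K = 64 := by
    generalize N.relIndex K = m at h7 h8 h9
    interval_cases m <;> simp_all <;> omega
  rcases h10 with h | h | h
  · exact le_antisymm (Subgroup.relIndex_eq_one.mp h) hNK
  · exfalso
    have hidx : K.index = 8 := by rw [h] at h6; omega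
    obtain ⟨x, hxP, hx7⟩ := D.exists_x
    have hcomm : Commute x D.y := Subgroup.mem_centralizer_iff.mp D.hyC x hxP
    exact no_index8 K hidx x D.y hx7 D.hy hcomm (hPK hxP)
      (by rw [hKdef, Subgroup.mem_centralizer_singleton_iff])
  · exfalso
    have hidx : K.index = 1 := by rw [h] at h6; omega
    have hKtop : K = ⊤ := Subgroup.index_eq_one.mp hidx
    have hnorm : (Subgroup.zpowers D.y).Normal := by
      constructor
      intro n hn g
      obtain ⟨i, rfl⟩ := Subgroup.mem_zpowers_iff.mp hn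
      have hg : g ∈ K := by rw [hKtop]; trivial
      rw [hKdef, Subgroup.mem_centralizer_singleton_iff] at hg
      have : g * D.y ^ i * g⁻¹ = D.y ^ i := by
        rw [← conj_zpow]
        congr 1
        rw [hg, mul_inv_cancel_right]
      rw [this]
      exact Subgroup.zpow_mem _ (Subgroup.mem_zpowers _) _
    rcases hnorm.eq_bot_or_eq_top with h0 | h0
    · have : D.y ∈ (⊥ : Subgroup G) := by rw [← h0]; exact Subgroup.mem_zpowers _
      exact D.y_ne_one (Subgroup.mem_bot.mp this)
    · have hc : Nat.card (Subgroup.zpowers D.y) = 3 := by rw [Nat.card_zpowers, D.hy]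
      rw [h0, Subgroup.card_top, hG] at hc
      omega

theorem not_conj_inv (hG : Nat.card G = 4032) (g : G) : g * D.y * g⁻¹ ≠ D.y⁻¹ := by
  intro hg
  have h1 : D.y = g⁻¹ * D.y⁻¹ * g := by rw [← hg]; group
  have hgi : g⁻¹ * D.y * g = D.y⁻¹ := by
    have h2 : D.y⁻¹ = (g⁻¹ * D.y⁻¹ * g)⁻¹ := congrArg (·⁻¹) h1
    rw [h2]
    group
  have hKN := D.K_eq_N hG
  have hgN : g ∈ Subgroup.normalizer ((D.P : Subgroup G) : Set G) := by
    apply h8_mem_normalizer_of_conj_le 7 D.P g
    intro u hu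
    have huy : u * D.y = D.y * u := Subgroup.mem_centralizer_iff.mp D.hyC u hu
    have hmemK : g⁻¹ * u * g ∈ Subgroup.centralizer ({D.y} : Set G) := by
      rw [Subgroup.mem_centralizer_singleton_iff]
      have huy' : u * D.y⁻¹ = D.y⁻¹ * u := by
        have := congrArg (fun w => D.y⁻¹ * w * D.y⁻¹) huy
        simp only [mul_assoc, mul_inv_cancel, mul_one, inv_mul_cancel_left] at this
        exact this.symm
      calc g⁻¹ * u * g * D.y = g⁻¹ * (u * (g * D.y * g⁻¹)) * g := by group
        _ = g⁻¹ * (u * D.y⁻¹) * g := by rw [hg]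
        _ = g⁻¹ * (D.y⁻¹ * u) * g := by rw [huy']
        _ = (g⁻¹ * D.y⁻¹ * g) * (g⁻¹ * u * g) := by group
        _ = D.y * (g⁻¹ * u * g) := by
            have : g⁻¹ * D.y⁻¹ * g = D.y := by
              have h3 := congrArg (fun w => w⁻¹) hgi
              simp only [mul_inv_rev, inv_inv] at h3
              rw [← mul_assoc] at h3
              exact h3
            rw [this]
    rw [hKN] at hmemK
    have hord : orderOf (g⁻¹ * u * g) = orderOf u := h8_orderOf_conj g u
    have hu7 : orderOf u ∣ 7 := by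
      rw [← D.hP]
      exact Subgroup.orderOf_dvd_natCard _ hu
    rcases (Nat.dvd_prime (by norm_num : Nat.Prime 7)).mp hu7 with h1 | h1
    · exact h8_mem_sylow_of_mem_normalizer 7 D.P _ 0 (by rw [hord, h1, pow_zero]) hmemK
    · exact h8_mem_sylow_of_mem_normalizer 7 D.P _ 1 (by rw [hord, h1, pow_one]) hmemK
  rw [← hKN, Subgroup.mem_centralizer_singleton_iff] at hgN
  have : g * D.y * g⁻¹ = D.y := by rw [hgN, mul_inv_cancel_right]
  rw [this] at hg
  have h2 : D.y ^ 2 = 1 := by
    rw [pow_two]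
    calc D.y * D.y = D.y⁻¹ * D.y := by rw [← hg]
      _ = 1 := inv_mul_cancel _
  have := orderOf_dvd_of_pow_eq_one h2
  rw [D.hy] at this
  omega

end D64

end Cfsg.Agent.Lib.Helper1.O4032
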