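import Mathlib
import Cfsg.Agent.Lib.Helper1.Ord4032.Case64b
import Cfsg.Agent.Lib.helper8.Burnside

set_option autoImplicit false
set_option linter.unusedVariables false
set_option linter.unusedSectionVars false
set_option linter.style.haveILetI false

namespace Cfsg.Agent.Lib.Helper1.O4032

open Cfsg.Agent.Lib.helper8 Cfsg.Agent.Lib.helper23

variable {G : Type*} [Group G] [Finite G] [IsSimpleGroup G]

namespace D64

variable [Fact (Nat.Prime 7)] (D : D64 G)

theorem inf_PR : (D.P : Subgroup G) ⊓ D.R = ⊥ :=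
  Subgroup.inf_eq_bot_of_coprime (by rw [D.hP, D.hR]; norm_num)

theorem R_le_normR : D.R ≤ Subgroup.normalizer (D.R : Set G) := Subgroup.le_normalizer

theorem normR_inf_N : Subgroup.normalizer (D.R : Set G) ⊓
    Subgroup.normalizer ((D.P : Subgroup G) : Set G) = D.R := by
  set M := Subgroup.normalizer (D.R : Set G) with hM
  set N := Subgroup.normalizer ((D.P : Subgroup G) : Set G) with hN
  have hRA : D.R ≤ M ⊓ N := le_inf D.R_le_normR D.hRN
  have hA63 : Nat.card (M ⊓ N : Subgroup G) ∣ 63 := by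
    rw [← D.hN]
    exact Subgroup.card_dvd_of_le inf_le_right
  have h9A : 9 ∣ Nat.card (M ⊓ N : Subgroup G) := by
    have := Subgroup.card_dvd_of_le hRA
    rwa [D.hR] at this
  have hle : Nat.card (M ⊓ N : Subgroup G) ≤ 63 := Nat.le_of_dvd (by norm_num) hA63
  have hcases : Nat.card (M ⊓ N : Subgroup G) = 9 ∨ Nat.card (M ⊓ N : Subgroup G) = 63 := by
    generalize Nat.card (M ⊓ N : Subgroup G) = a at hA63 h9A hle
    interval_cases a <;> simp_all <;> omega
  rcases hcases with h | h
  · exact (Subgroup.eq_of_le_of_card_ge hRA (by rw [h, D.hR])).symm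
  · exfalso
    have hNM : N ≤ M := by
      have : M ⊓ N = N := Subgroup.eq_of_le_of_card_ge inf_le_right (by rw [h, D.hN])
      rw [← this]
      exact inf_le_left
    have hRC : D.R ≤ Subgroup.centralizer ((D.P : Subgroup G) : Set G) := by
      intro a ha
      rw [Subgroup.mem_centralizer_iff]
      intro u hu
      have haN : a ∈ N := D.hRN ha
      have huM : u ∈ M := hNM (D.P_le_N hu)
      have h1 : a * u * a⁻¹ ∈ (D.P : Subgroup G) := (Subgroup.mem_normalizer_iff.mp haN u).mp hu
      have h2 : u * a⁻¹ * u⁻¹ ∈ D.R :=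
        (Subgroup.mem_normalizer_iff.mp huM a⁻¹).mp (Subgroup.inv_mem _ ha)
      have h3 : a * u * a⁻¹ * u⁻¹ ∈ (D.P : Subgroup G) ⊓ D.R := by
        refine ⟨Subgroup.mul_mem _ h1 (Subgroup.inv_mem _ hu), ?_⟩
        have : a * u * a⁻¹ * u⁻¹ = a * (u * a⁻¹ * u⁻¹) := by group
        rw [this]
        exact Subgroup.mul_mem _ ha h2
      rw [D.inf_PR, Subgroup.mem_bot] at h3
      have : a * u = u * a := by
        have h4 := congrArg (fun w => w * u * a) h3
        simp only [one_mul] at h4
        rw [← h4]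
        group
      exact this.symm
    have := Subgroup.card_dvd_of_le hRC
    rw [D.hR, D.hC] at this
    omega

theorem conj_mem_R (m : G) (hm : m ∈ Subgroup.normalizer (D.R : Set G)) (z : G) (hz : z ∈ D.R) :
    m * z * m⁻¹ ∈ D.R := (Subgroup.mem_normalizer_iff.mp hm z).mp hz

theorem stab_mem_R (hG : Nat.card G = 4032) (a b : G)
    (ha : a ∈ Subgroup.normalizer (D.R : Set G)) (hb : b ∈ Subgroup.normalizer (D.R : Set G))
    (h : a * D.y * a⁻¹ = b * D.y * b⁻¹) : a⁻¹ * b ∈ D.R := by
  have h1 : a⁻¹ * b ∈ Subgroup.centralizer ({D.y} : Set G) := by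
    rw [Subgroup.mem_centralizer_singleton_iff]
    have h2 : D.y = a⁻¹ * (b * D.y * b⁻¹) * a := by rw [← h]; group
    calc a⁻¹ * b * D.y = a⁻¹ * (b * D.y * b⁻¹) * a * (a⁻¹ * b) := by group
      _ = D.y * (a⁻¹ * b) := by rw [← h2]
  rw [D.K_eq_N hG] at h1
  have h3 : a⁻¹ * b ∈ Subgroup.normalizer (D.R : Set G) ⊓
      Subgroup.normalizer ((D.P : Subgroup G) : Set G) :=
    ⟨Subgroup.mul_mem _ (Subgroup.inv_mem _ ha) hb, h1⟩
  rwa [D.normR_inf_N] at h3

theorem fusion (hG : Nat.card G = 4032) :
    Nat.card (Subgroup.normalizer (D.R : Set G)) = 36 ∧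
    ∀ z ∈ D.R, z ≠ 1 → ∃ m : G, z = m * D.y * m⁻¹ ∨ z = m * D.y⁻¹ * m⁻¹ := by
  classical
  haveI : Fact (Nat.Prime 3) := ⟨by norm_num⟩
  set M := Subgroup.normalizer (D.R : Set G) with hM
  have hRM : D.R ≤ M := D.R_le_normR
  let Q : Subgroup M := D.R.subgroupOf M
  let f : (M ⧸ Q) ⊕ (M ⧸ Q) → {g : G // g ∈ D.R ∧ g ≠ 1} := fun q =>
    Sum.elim
      (fun q => ⟨((Quotient.out q : M) : G) * D.y * ((Quotient.out q : M) : G)⁻¹,
        D.conj_mem_R _ (Quotient.out q : M).2 _ D.hyR, by
          intro h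
          apply D.y_ne_one
          have := congrArg (fun w => ((Quotient.out q : M) : G)⁻¹ * w * ((Quotient.out q : M) : G)) h
          simpa [mul_assoc] using this⟩)
      (fun q => ⟨((Quotient.out q : M) : G) * D.y⁻¹ * ((Quotient.out q : M) : G)⁻¹,
        D.conj_mem_R _ (Quotient.out q : M).2 _ (Subgroup.inv_mem _ D.hyR), by
          intro h
          apply D.y_ne_one
          have := congrArg (fun w => ((Quotient.out q : M) : G)⁻¹ * w * ((Quotient.out q : M) : G)) h
          simpa [mul_assoc] using this⟩) q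
  have hqeq : ∀ q q' : M ⧸ Q, ((Quotient.out q : M) : G)⁻¹ * ((Quotient.out q' : M) : G) ∈ D.R →
      q = q' := by
    intro q q' h
    rw [← QuotientGroup.out_eq' q, ← QuotientGroup.out_eq' q', QuotientGroup.eq]
    change (Quotient.out q : M)⁻¹ * (Quotient.out q' : M) ∈ D.R.subgroupOf M
    rw [Subgroup.mem_subgroupOf]
    simpa using h
  have hf : Function.Injective f := by
    intro q q' h
    have h' : ((f q : {g : G // g ∈ D.R ∧ g ≠ 1}) : G) = (f q' : G) := congrArg Subtype.val h
    rcases q with q | q <;> rcases q' with q' | q'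
    · simp only [f, Sum.elim_inl] at h'
      congr 1
      exact hqeq q q' (D.stab_mem_R hG _ _ (Quotient.out q : M).2 (Quotient.out q' : M).2 h')
    · exfalso
      simp only [f, Sum.elim_inl, Sum.elim_inr] at h'
      apply D.not_conj_inv hG (((Quotient.out q' : M) : G)⁻¹ * ((Quotient.out q : M) : G))
      have := congrArg (fun w => ((Quotient.out q' : M) : G)⁻¹ * w * ((Quotient.out q' : M) : G)) h'
      beta_reduce at this
      calc ((Quotient.out q' : M) : G)⁻¹ * ((Quotient.out q : M) : G) * D.y *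
            (((Quotient.out q' : M) : G)⁻¹ * ((Quotient.out q : M) : G))⁻¹
          = ((Quotient.out q' : M) : G)⁻¹ * (((Quotient.out q : M) : G) * D.y *
            ((Quotient.out q : M) : G)⁻¹) * ((Quotient.out q' : M) : G) := by group
        _ = ((Quotient.out q' : M) : G)⁻¹ * (((Quotient.out q' : M) : G) * D.y⁻¹ *
            ((Quotient.out q' : M) : G)⁻¹) * ((Quotient.out q' : M) : G) := this
        _ = D.y⁻¹ := by group
    · exfalso
      simp only [f, Sum.elim_inl, Sum.elim_inr] at h'
      apply D.not_conj_inv hG (((Quotient.out q : M) : G)⁻¹ * ((Quotient.out q' : M) : G))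
      have := congrArg (fun w => ((Quotient.out q : M) : G)⁻¹ * w * ((Quotient.out q : M) : G)) h'
      beta_reduce at this
      calc ((Quotient.out q : M) : G)⁻¹ * ((Quotient.out q' : M) : G) * D.y *
            (((Quotient.out q : M) : G)⁻¹ * ((Quotient.out q' : M) : G))⁻¹
          = ((Quotient.out q : M) : G)⁻¹ * (((Quotient.out q' : M) : G) * D.y *
            ((Quotient.out q' : M) : G)⁻¹) * ((Quotient.out q : M) : G) := by group
        _ = ((Quotient.out q : M) : G)⁻¹ * (((Quotient.out q : M) : G) * D.y⁻¹ *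
            ((Quotient.out q : M) : G)⁻¹) * ((Quotient.out q : M) : G) := this.symm
        _ = D.y⁻¹ := by group
    · simp only [f, Sum.elim_inr] at h'
      congr 1
      apply hqeq q q'
      apply D.stab_mem_R hG _ _ (Quotient.out q : M).2 (Quotient.out q' : M).2
      have := congrArg (fun w => w⁻¹) h'
      simp only [mul_inv_rev, inv_inv] at this
      rw [← mul_assoc, ← mul_assoc] at this
      exact this
  have hcod : Nat.card {g : G // g ∈ D.R ∧ g ≠ 1} = 8 := by
    rw [h8_card_ne_one_subgroup, D.hR]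
  have hdom : Nat.card ((M ⧸ Q) ⊕ (M ⧸ Q)) = 2 * D.R.relIndex M := by
    rw [Nat.card_sum, two_mul]
    rfl
  have hle : 2 * D.R.relIndex M ≤ 8 := by
    rw [← hdom, ← hcod]
    exact Nat.card_le_card_of_injective f hf
  have hcardM : 9 * D.R.relIndex M = Nat.card M := by
    have := h8_card_mul_relIndex hRM
    rwa [D.hR] at this
  have hfac : (Nat.card G).factorization 3 = 2 :=
    h8_factorization_of_eq 3 2 448 _ (by norm_num) (by rw [hG]; norm_num) (by norm_num)
  let RS : Sylow 3 G := Sylow.ofCard D.R (by rw [D.hR, hfac]; norm_num)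
  have hRS : (RS : Subgroup G) = D.R := Sylow.coe_ofCard _ _
  have hn3 := h8_card_normalizer_sylow 3 RS
  rw [hRS, hG] at hn3
  have hmod := h8_nsylow_mod (G := G) 3
  have hrpos : 0 < D.R.relIndex M := by
    rcases Nat.eq_zero_or_pos (D.R.relIndex M) with h | h
    · rw [h, mul_zero] at hcardM
      exact absurd hcardM.symm Nat.card_pos.ne'
    · exact h
  have hr4 : D.R.relIndex M = 4 := by
    have hr1 : D.R.relIndex M ≠ 1 := by
      intro h1
      have hMR : M ≤ D.R := Subgroup.relIndex_eq_one.mp h1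
      apply h8_simple_not_normalizer_le_centralizer 3 2 448 (by rw [hG]; norm_num) (by norm_num)
        (by norm_num) (by norm_num) RS
      rw [hRS]
      intro g hg
      rw [Subgroup.mem_centralizer_iff]
      intro u hu
      exact D.R_comm u hu g (hMR hg)
    rw [← hcardM] at hn3
    generalize D.R.relIndex M = r at hle hn3 hrpos hr1
    generalize Nat.card (Sylow 3 G) = n at hn3 hmod
    have hr4' : r ≤ 4 := by omega
    interval_cases r <;> omega
  refine ⟨by rw [← hcardM, hr4], ?_⟩
  have hbij := hf.bijective_of_nat_card_le (by rw [hcod, hdom, hr4])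
  intro z hz hz1
  obtain ⟨q, hq⟩ := hbij.2 ⟨z, hz, hz1⟩
  have hq' : ((f q : {g : G // g ∈ D.R ∧ g ≠ 1}) : G) = z := congrArg Subtype.val hq
  rcases q with q | q
  · exact ⟨((Quotient.out q : M) : G), Or.inl hq'.symm⟩
  · exact ⟨((Quotient.out q : M) : G), Or.inr hq'.symm⟩

end D64

end Cfsg.Agent.Lib.Helper1.O4032
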