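import Mathlib
import Cfsg.Agent.Lib.Helper1.Ord4032.Case64c

set_option autoImplicit false
set_option linter.unusedVariables false
set_option linter.unusedSectionVars false
set_option linter.style.haveILetI false

namespace Cfsg.Agent.Lib.Helper1.O4032

open Cfsg.Agent.Lib.helper8 Cfsg.Agent.Lib.helper23

variable {G : Type*} [Group G] [Finite G] [IsSimpleGroup G]

namespace D64

variable [Fact (Nat.Prime 7)] (D : D64 G)

omit D in
theorem no_invert7 (hG : Nat.card G = 4032) (h64 : Nat.card (Sylow 7 G) = 64) (s z : G)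
    (hs : orderOf s = 2) (hz : orderOf z = 7) : s * z * s⁻¹ ≠ z⁻¹ := by
  intro h
  have hss : s * s = 1 := by rw [← pow_two, ← hs]; exact pow_orderOf_eq_one s
  have hsinv : s⁻¹ = s := inv_eq_of_mul_eq_one_left hss
  have hfac : (Nat.card G).factorization 7 = 1 :=
    h8_factorization_of_eq 7 1 576 _ (by norm_num) (by rw [hG]; norm_num) (by norm_num)
  let P' : Sylow 7 G := Sylow.ofCard (Subgroup.zpowers z)
    (by rw [Nat.card_zpowers, hz, hfac, pow_one])
  have hP' : (P' : Subgroup G) = Subgroup.zpowers z := Sylow.coe_ofCard _ _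
  have hN := h8_card_normalizer_sylow 7 P'
  rw [h64, hG] at hN
  have hN63 : Nat.card (Subgroup.normalizer ((P' : Subgroup G) : Set G)) = 63 := by omega
  have hsN : s ∈ Subgroup.normalizer ((P' : Subgroup G) : Set G) := by
    apply h8_mem_normalizer_of_conj_le 7 P' s
    intro u hu
    rw [hP'] at hu ⊢
    obtain ⟨i, rfl⟩ := Subgroup.mem_zpowers_iff.mp hu
    have e : s⁻¹ * z ^ i * s = (s * z * s⁻¹) ^ i := by
      rw [conj_zpow, hsinv]
    rw [e, h]
    exact Subgroup.zpow_mem _ (Subgroup.inv_mem _ (Subgroup.mem_zpowers z)) _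
  have := Subgroup.orderOf_dvd_natCard _ hsN
  rw [hs, hN63] at this
  omega

include D in
theorem no_invert3 (hG : Nat.card G = 4032) (s z : G)
    (hs : orderOf s = 2) (hz : orderOf z = 3) : s * z * s⁻¹ ≠ z⁻¹ := by
  intro h
  haveI : Fact (Nat.Prime 3) := ⟨by norm_num⟩
  have hfac : (Nat.card G).factorization 3 = 2 :=
    h8_factorization_of_eq 3 2 448 _ (by norm_num) (by rw [hG]; norm_num) (by norm_num)
  let RS : Sylow 3 G := Sylow.ofCard D.R (by rw [D.hR, hfac]; norm_num)
  have hRS : (RS : Subgroup G) = D.R := Sylow.coe_ofCard _ _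
  have hz3 : IsPGroup 3 (Subgroup.zpowers z) :=
    IsPGroup.of_card (n := 1) (by rw [Nat.card_zpowers, hz, pow_one])
  obtain ⟨R', hR'⟩ := hz3.exists_le_sylow
  obtain ⟨g, hg⟩ := MulAction.exists_smul_eq G RS R'
  have hzR' : z ∈ ((g • RS : Sylow 3 G) : Subgroup G) := by
    rw [hg]
    exact hR' (Subgroup.mem_zpowers z)
  rw [h8_mem_smul_sylow, hRS] at hzR'
  have hz1 : g⁻¹ * z * g ≠ 1 := by
    intro h1
    have : z = 1 := by
      have := congrArg (fun w => g * w * g⁻¹) h1
      simpa [mul_assoc] using this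
    rw [this] at hz
    simp at hz
  obtain ⟨m, hm⟩ := (D.fusion hG).2 _ hzR' hz1
  have key : ∀ c : G, z = c * D.y * c⁻¹ → False := by
    intro c hc
    apply D.not_conj_inv hG (c⁻¹ * s * c)
    have h2 : D.y = c⁻¹ * z * c := by rw [hc]; group
    calc c⁻¹ * s * c * D.y * (c⁻¹ * s * c)⁻¹ = c⁻¹ * (s * (c * D.y * c⁻¹) * s⁻¹) * c := by group
      _ = c⁻¹ * z⁻¹ * c := by rw [← hc, h]
      _ = (c⁻¹ * z * c)⁻¹ := by group
      _ = D.y⁻¹ := by rw [← h2]
  rcases hm with hm | hm
  · apply key (g * m)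
    have : z = g * (g⁻¹ * z * g) * g⁻¹ := by group
    rw [this, hm]
    group
  · have hsi : s * z⁻¹ * s⁻¹ = z := by
      have := congrArg (fun w => w⁻¹) h
      simp only [mul_inv_rev, inv_inv] at this
      rw [← mul_assoc] at this
      exact this
    have hz' : z⁻¹ = (g * m) * D.y * (g * m)⁻¹ := by
      have h3 : z = g * (g⁻¹ * z * g) * g⁻¹ := by group
      rw [h3, hm]
      group
    apply D.not_conj_inv hG ((g * m)⁻¹ * s * (g * m))
    have h2 : D.y = (g * m)⁻¹ * z⁻¹ * (g * m) := by rw [hz']; group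
    calc (g * m)⁻¹ * s * (g * m) * D.y * ((g * m)⁻¹ * s * (g * m))⁻¹
        = (g * m)⁻¹ * (s * ((g * m) * D.y * (g * m)⁻¹) * s⁻¹) * (g * m) := by group
      _ = (g * m)⁻¹ * z * (g * m) := by rw [← hz', hsi]
      _ = ((g * m)⁻¹ * z⁻¹ * (g * m))⁻¹ := by group
      _ = D.y⁻¹ := by rw [← h2]

end D64

theorem case64 (hG : Nat.card G = 4032) [Fact (Nat.Prime 7)] (h64 : Nat.card (Sylow 7 G) = 64) :
    False := by
  obtain ⟨D⟩ := exists_D64 hG h64
  apply baer_contra hG
  apply invol_prod_pow hG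
  intro s z hs hz
  rcases hz with hz | hz
  · exact D64.no_invert3 D hG s z hs hz
  · exact D64.no_invert7 hG h64 s z hs hz

end Cfsg.Agent.Lib.Helper1.O4032
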